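import Mathlib
import Cfsg.Prelude.Def_Blocks
import Cfsg.Agent.Blocks.BlockRank
import Cfsg.Agent.Blocks.CyclicAssembly
import Cfsg.Agent.H644.Center
import Cfsg.Agent.H609.TwoDefect
import Cfsg.Agent.S0135
import Cfsg.Agent.S0961
import Cfsg.Agent.S4513
set_option linter.all false

-- part: H382/SymAlg
section
/-!
# Symmetric algebras with two-dimensional space of trace functions

`A` is a finite-dimensional algebra over an algebraically closed field `K`, with a nondegenerate trace
function `τ`.

* `tf K A`: the space of trace functions `f (a * b) = f (b * a)`;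
* `finrank_of_surjective_matrix`: if `A` maps onto a matrix algebra of degree `n` with nilpotent kernel
  and `dim (tf K A) = 2` then `dim A = 2 n²`;
* `finrank_eq_two_mul_sq`: the same when every central element is scalar modulo nilpotent elements.
-/

set_option autoImplicit false

namespace Cfsg.Agent.H382.SymAlg

open Module

/-- The space of trace functions of an algebra. -/
def tf (K A : Type*) [Field K] [Ring A] [Algebra K A] : Submodule K (Dual K A) where
  carrier := {f | ∀ a b : A, f (a * b) = f (b * a)}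
  add_mem' := by
    intro f g hf hg a b
    rw [LinearMap.add_apply, LinearMap.add_apply, hf, hg]
  zero_mem' := by
    intro a b
    rfl
  smul_mem' := by
    intro c f hf a b
    rw [LinearMap.smul_apply, LinearMap.smul_apply, hf]

variable {K A : Type*} [Field K] [Ring A] [Algebra K A]

theorem mem_tf {f : Dual K A} : f ∈ tf K A ↔ ∀ a b : A, f (a * b) = f (b * a) := Iff.rfl

/-- A trace function of a matrix algebra is a multiple of the trace. -/
theorem matrix_tf {n : ℕ} [NeZero n] (f : Matrix (Fin n) (Fin n) K →ₗ[K] K)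
    (hf : ∀ a b, f (a * b) = f (b * a)) : ∃ c : K, ∀ a, f a = c * Matrix.trace a := by
  classical
  refine ⟨f (Matrix.single 0 0 1), fun a => ?_⟩
  have h1 : ∀ i j : Fin n, f (Matrix.single i j 1) = if i = j then f (Matrix.single 0 0 1) else 0 := by
    intro i j
    have h2 : Matrix.single i j (1 : K) = Matrix.single i 0 1 * Matrix.single 0 j 1 := by
      rw [Matrix.single_mul_single_same, one_mul]
    rw [h2, hf]
    split_ifs with h
    · subst h
      rw [Matrix.single_mul_single_same, one_mul]
    · rw [Matrix.single_mul_single_of_ne _ _ _ _ (Ne.symm h), map_zero]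
  conv_lhs => rw [Matrix.matrix_eq_sum_single a]
  rw [map_sum, Matrix.trace, Finset.mul_sum]
  refine Finset.sum_congr rfl fun i _ => ?_
  rw [map_sum]
  have h3 : ∀ j, f (Matrix.single i j (a i j)) = a i j * f (Matrix.single i j 1) := by
    intro j
    rw [← smul_eq_mul, ← map_smul, Matrix.smul_single, smul_eq_mul, mul_one]
  rw [Finset.sum_congr rfl fun j _ => (h3 j).trans (congrArg (fun z => a i j * z) (h1 i j))]
  rw [Finset.sum_eq_single i]
  · rw [if_pos rfl, mul_comm]
    rfl
  · intro b _ hb
    rw [if_neg (Ne.symm hb), mul_zero]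
  · intro h
    exact absurd (Finset.mem_univ i) h

/-- The main step. -/
theorem finrank_of_surjective_matrix [FiniteDimensional K A] {n : ℕ} [NeZero n]
    (π : A →ₐ[K] Matrix (Fin n) (Fin n) K) (hπ : Function.Surjective π) {N : ℕ}
    (hN : (LinearMap.ker π.toLinearMap) ^ N = ⊥) (hT : finrank K (tf K A) = 2)
    {τ : Dual K A} (hτ : τ ∈ tf K A) (hnd : ∀ a, (∀ b, τ (a * b) = 0) → a = 0) :
    finrank K A = 2 * n ^ 2 := by
  classical
  set J : Submodule K A := LinearMap.ker π.toLinearMap with hJdef
  have hJ : ∀ a, a ∈ J ↔ π a = 0 := fun a => LinearMap.mem_ker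
  have hJl : ∀ a, ∀ j ∈ J, a * j ∈ J := by
    intro a j hj
    rw [hJ] at hj ⊢
    rw [map_mul, hj, mul_zero]
  have hJr : ∀ a, ∀ j ∈ J, j * a ∈ J := by
    intro a j hj
    rw [hJ] at hj ⊢
    rw [map_mul, hj, zero_mul]
  have hJnil : ∀ a ∈ J, IsNilpotent a := by
    intro a ha
    refine ⟨N, ?_⟩
    have h1 : a ^ N ∈ J ^ N := Submodule.pow_mem_pow J ha N
    rw [hN] at h1
    exact (Submodule.mem_bot K).1 h1
  let t : Dual K A := (Matrix.traceLinearMap (Fin n) K K).comp π.toLinearMap
  have ht : t ∈ tf K A := by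
    intro a b
    show Matrix.trace (π (a * b)) = Matrix.trace (π (b * a))
    rw [map_mul, map_mul, Matrix.trace_mul_comm]
  -- `J ≠ 0`
  have hJ0 : J ≠ ⊥ := by
    intro h0
    have hinj : Function.Injective π := by
      rw [injective_iff_map_eq_zero]
      intro a ha
      have : a ∈ J := (hJ a).2 ha
      rw [h0] at this
      exact (Submodule.mem_bot K).1 this
    let ε : A ≃ₐ[K] Matrix (Fin n) (Fin n) K := AlgEquiv.ofBijective π ⟨hinj, hπ⟩
    have h1 : tf K A ≤ Submodule.span K {t} := by
      intro f hf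
      obtain ⟨c, hc⟩ := matrix_tf (f.comp ε.symm.toLinearMap) (by
        intro a b
        show f (ε.symm (a * b)) = f (ε.symm (b * a))
        rw [map_mul ε.symm, map_mul ε.symm]
        exact hf _ _)
      rw [Submodule.mem_span_singleton]
      refine ⟨c, ?_⟩
      ext a
      have h2 := hc (ε a)
      have h3 : f (ε.symm (ε a)) = c * Matrix.trace (ε a) := h2
      rw [AlgEquiv.symm_apply_apply] at h3
      exact h3.symm
    have h2 := Submodule.finrank_mono h1
    have h3 : finrank K (Submodule.span K {t}) ≤ 1 := by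
      have := finrank_span_le_card (R := K) ({t} : Set (Dual K A))
      simpa using this
    omega
  -- the square of `J`
  have hJ2ne : ¬ J ≤ J * J := by
    intro h0
    have h1 : ∀ k : ℕ, J ≤ J ^ (k + 1) := by
      intro k
      induction k with
      | zero => rw [zero_add, pow_one]
      | succ k ih =>
        rw [pow_succ]
        exact h0.trans (mul_le_mul' ih le_rfl)
    apply hJ0
    rw [eq_bot_iff]
    calc J ≤ J ^ (N + 1) := h1 N
      _ = J ^ N * J := pow_succ _ _
      _ = ⊥ := by rw [hN, Submodule.bot_mul]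
  have hJJl : ∀ a, ∀ j ∈ J * J, a * j ∈ J * J := by
    intro a j hj
    induction hj using Submodule.mul_induction_on' with
    | mem_mul_mem x hx y hy =>
      rw [← mul_assoc]
      exact Submodule.mul_mem_mul (hJl a x hx) hy
    | add x hx y hy h1 h2 =>
      rw [mul_add]
      exact Submodule.add_mem _ h1 h2
  have hJJr : ∀ a, ∀ j ∈ J * J, j * a ∈ J * J := by
    intro a j hj
    induction hj using Submodule.mul_induction_on' with
    | mem_mul_mem x hx y hy =>
      rw [mul_assoc]
      exact Submodule.mul_mem_mul hx (hJr a y hy)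
    | add x hx y hy h1 h2 =>
      rw [add_mul]
      exact Submodule.add_mem _ h1 h2
  have hJJle : J * J ≤ J := by
    rw [Submodule.mul_le]
    intro x _ y hy
    exact hJl x y hy
  -- the idempotent
  obtain ⟨e, hee, he⟩ := exists_isIdempotentElem_eq_of_ker_isNilpotent
    (π : A →+* Matrix (Fin n) (Fin n) K) (fun x hx => hJnil x ((hJ x).2 hx))
    (Matrix.single 0 0 1) (by obtain ⟨x, hx⟩ := hπ (Matrix.single 0 0 1); exact ⟨x, hx⟩)
    (by rw [IsIdempotentElem, Matrix.single_mul_single_same, one_mul])
  have he : π e = Matrix.single 0 0 1 := he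
  choose x hx using fun i : Fin n => hπ (Matrix.single i 0 1)
  choose y' hy' using fun i : Fin n => hπ (Matrix.single 0 i 1)
  have hs : π (∑ i, x i * e * y' i) = 1 := by
    rw [map_sum]
    have h1 : ∀ i, π (x i * e * y' i) = Matrix.single i i 1 := by
      intro i
      rw [map_mul, map_mul, hx, he, hy', Matrix.single_mul_single_same,
        Matrix.single_mul_single_same, one_mul, one_mul]
    rw [Finset.sum_congr rfl fun i _ => h1 i]
    exact Matrix.sum_single_one
  obtain ⟨s, hs'⟩ : IsUnit (∑ i, x i * e * y' i) := by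
    have h1 : IsNilpotent (1 - ∑ i, x i * e * y' i) := by
      apply hJnil
      rw [hJ, map_sub, hs, map_one, sub_self]
    have h2 := h1.isUnit_one_sub
    rwa [sub_sub_cancel] at h2
  let y : Fin n → A := fun i => y' i * ((s⁻¹ : Aˣ) : A)
  have hone : ∑ i, x i * e * y i = 1 := by
    have h1 : ∀ i, x i * e * y i = (x i * e * y' i) * ((s⁻¹ : Aˣ) : A) := by
      intro i
      show x i * e * (y' i * ((s⁻¹ : Aˣ) : A)) = _
      rw [mul_assoc (x i * e)]
    rw [Finset.sum_congr rfl fun i _ => h1 i, ← Finset.sum_mul, ← hs', Units.mul_inv]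
  -- an element of `eJe` outside of `J²`
  obtain ⟨w, hwJ, hwe, hw2⟩ : ∃ w ∈ J, e * w * e = w ∧ w ∉ J * J := by
    by_contra hcon
    push Not at hcon
    apply hJ2ne
    intro j hj
    have h1 : j = ∑ i, ∑ k, x i * ((e * (y i * j * x k) * e) * y k) := by
      have h2 : j = (∑ i, x i * e * y i) * j * (∑ k, x k * e * y k) := by
        rw [hone, one_mul, mul_one]
      refine h2.trans ?_
      rw [Finset.sum_mul, Finset.sum_mul]
      refine Finset.sum_congr rfl fun i _ => ?_
      rw [Finset.mul_sum]
      refine Finset.sum_congr rfl fun k _ => ?_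
      simp only [mul_assoc]
    rw [h1]
    refine Submodule.sum_mem _ fun i _ => Submodule.sum_mem _ fun k _ => ?_
    apply hJJl
    apply hJJr
    apply hcon
    · exact hJr _ _ (hJl _ _ (hJr _ _ (hJl _ _ hj)))
    · have h3 : e * (e * (y i * j * x k) * e) * e = (e * e) * (y i * j * x k) * (e * e) := by
        simp only [mul_assoc]
      rw [h3, hee.eq]
  obtain ⟨g, hgw, hg⟩ := Submodule.exists_le_ker_of_notMem hw2
  have hg' : ∀ a ∈ J * J, g a = 0 := fun a ha => LinearMap.mem_ker.1 (hg ha)
  -- commutators in `eAe`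
  have hcomm : ∀ a b : A, g ((e * a * e) * (e * b * e)) = g ((e * b * e) * (e * a * e)) := by
    have hdec : ∀ a : A, ∃ (α : K) (r : A), r ∈ J ∧ e * r = r ∧ r * e = r ∧ e * a * e = α • e + r := by
      intro a
      refine ⟨π a 0 0, e * a * e - (π a 0 0) • e, ?_, ?_, ?_, ?_⟩
      · rw [hJ, map_sub, map_mul, map_mul, map_smul, he]
        ext i j
        simp only [Matrix.sub_apply, Matrix.smul_apply, Matrix.zero_apply]
        rw [Matrix.single_mul_mul_single]
        simp [Matrix.single_apply]
      · rw [mul_sub, mul_smul_comm, hee.eq, ← mul_assoc, ← mul_assoc, hee.eq]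
      · rw [sub_mul, smul_mul_assoc, hee.eq, mul_assoc, hee.eq]
      · abel
    intro a b
    obtain ⟨α, r, hr, her, hre, ha⟩ := hdec a
    obtain ⟨β, r', hr', her', hre', hb⟩ := hdec b
    rw [ha, hb]
    have h1 : (α • e + r) * (β • e + r') = (α * β) • e + α • r' + β • r + r * r' := by
      rw [add_mul, mul_add, mul_add, smul_mul_assoc, smul_mul_assoc, mul_smul_comm, mul_smul_comm,
        hee.eq, her', hre, smul_smul]
      abel
    have h2 : (β • e + r') * (α • e + r) = (α * β) • e + α • r' + β • r + r' * r := by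
      rw [add_mul, mul_add, mul_add, smul_mul_assoc, smul_mul_assoc, mul_smul_comm, mul_smul_comm,
        hee.eq, her, hre', smul_smul, mul_comm β α]
      abel
    rw [h1, h2, map_add, map_add _ _ (r' * r), hg' _ (Submodule.mul_mem_mul hr hr'),
      hg' _ (Submodule.mul_mem_mul hr' hr)]
  -- the trace function
  let f : Dual K A := ∑ i, (g.comp (LinearMap.mulLeft K (e * y i))).comp
    (LinearMap.mulRight K (x i * e))
  have hfa : ∀ a, f a = ∑ i, g (e * (y i * a * x i) * e) := by
    intro a
    simp only [f, LinearMap.sum_apply]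
    refine Finset.sum_congr rfl fun i _ => ?_
    simp only [LinearMap.comp_apply, LinearMap.mulLeft_apply, LinearMap.mulRight_apply, mul_assoc]
  have hft : f ∈ tf K A := by
    intro a b
    rw [hfa, hfa]
    have h1 : ∀ (a b : A) (i : Fin n), g (e * (y i * (a * b) * x i) * e) =
        ∑ k, g ((e * (y i * a * x k) * e) * (e * (y k * b * x i) * e)) := by
      intro a b i
      rw [← map_sum]
      congr 1
      have h2 : e * (y i * (a * b) * x i) * e =
          e * (y i * (a * (∑ k, x k * e * y k) * b) * x i) * e := by rw [hone, mul_one]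
      rw [h2]
      simp only [Finset.mul_sum, Finset.sum_mul]
      refine Finset.sum_congr rfl fun k _ => ?_
      have h3 : e * (y i * a * x k) * e * (e * (y k * b * x i) * e) =
          e * (y i * a * x k) * (e * e) * (y k * b * x i) * e := by
        simp only [mul_assoc]
      rw [h3, hee.eq]
      simp only [mul_assoc]
    simp only [h1]
    rw [Finset.sum_comm]
    refine Finset.sum_congr rfl fun i _ => Finset.sum_congr rfl fun k _ => ?_
    exact hcomm _ _
  have hfw : f w = g w := by
    rw [hfa]
    have h1 : ∀ i, g (e * (y i * w * x i) * e) = g (w * (x i * e * y i) * e) := by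
      intro i
      have h2 : e * (y i * w * x i) * e = (e * y i * e) * (e * (w * x i) * e) := by
        have h3 : e * y i * e * (e * (w * x i) * e) = e * (y i * ((e * e) * w) * x i) * e := by
          simp only [mul_assoc]
        rw [h3, hee.eq]
        have h4 : e * w = w := by
          rw [← hwe, ← mul_assoc, ← mul_assoc, hee.eq]
        rw [h4]
      have h5 : (e * (w * x i) * e) * (e * y i * e) = w * (x i * e * y i) * e := by
        have h3 : (e * (w * x i) * e) * (e * y i * e) = (e * w) * (x i * (e * e) * y i) * e := by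
          simp only [mul_assoc]
        have h4 : e * w = w := by
          rw [← hwe, ← mul_assoc, ← mul_assoc, hee.eq]
        rw [h3, hee.eq, h4]
      rw [h2, hcomm, h5]
    rw [Finset.sum_congr rfl fun i _ => h1 i, ← map_sum, ← Finset.sum_mul, ← Finset.mul_sum, hone,
      mul_one]
    congr 1
    rw [← hwe, mul_assoc, hee.eq]
  have hfJ : ∀ a ∈ J * J, f a = 0 := by
    intro a ha
    rw [hfa]
    refine Finset.sum_eq_zero fun i _ => hg' _ ?_
    exact hJJr _ _ (hJJl _ _ (hJJr _ _ (hJJl _ _ ha)))
  have htJ : ∀ a ∈ J, t a = 0 := by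
    intro a ha
    show Matrix.trace (π a) = 0
    rw [(hJ a).1 ha, Matrix.trace_zero]
  have hte : t e = 1 := by
    show Matrix.trace (π e) = 1
    rw [he, Matrix.trace_single_eq_same]
  -- they span the trace functions
  have hspan : τ ∈ Submodule.span K {t, f} := by
    have hli : LinearIndependent K ![t, f] := by
      rw [LinearIndependent.pair_iff]
      intro a b hab
      have h1 := LinearMap.congr_fun hab w
      have h2 := LinearMap.congr_fun hab e
      rw [LinearMap.add_apply, LinearMap.smul_apply, LinearMap.smul_apply, htJ w hwJ, hfw, smul_zero,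
        zero_add, LinearMap.zero_apply, smul_eq_mul] at h1
      have hb : b = 0 := (mul_eq_zero.1 h1).resolve_right hgw
      rw [hb, zero_smul, add_zero, LinearMap.smul_apply, hte, smul_eq_mul, mul_one,
        LinearMap.zero_apply] at h2
      exact ⟨h2, hb⟩
    have h1 : Submodule.span K {t, f} ≤ tf K A := by
      rw [Submodule.span_le]
      rintro z (rfl | rfl)
      · exact ht
      · exact hft
    have h2 : finrank K (Submodule.span K {t, f}) = 2 := by
      have h3 := finrank_span_eq_card hli
      have hr : Set.range ![t, f] = {t, f} := by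
        ext z
        simp [or_comm]
      rw [hr] at h3
      simpa using h3
    have h4 : Submodule.span K {t, f} = tf K A :=
      Submodule.eq_of_le_of_finrank_eq h1 (by rw [h2, hT])
    rw [h4]
    exact hτ
  have hJJ : J * J = ⊥ := by
    rw [eq_bot_iff]
    intro a ha
    rw [Submodule.mem_bot]
    apply hnd
    intro b
    have h1 := hJJr b a ha
    obtain ⟨c, d, hcd⟩ := Submodule.mem_span_pair.1 hspan
    rw [← hcd, LinearMap.add_apply, LinearMap.smul_apply, LinearMap.smul_apply, hfJ _ h1,
      htJ _ (hJJle h1), smul_zero, smul_zero, add_zero]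
  have hmul0 : ∀ a ∈ J, ∀ b ∈ J, a * b = 0 := by
    intro a ha b hb
    have := Submodule.mul_mem_mul ha hb
    rw [hJJ] at this
    exact (Submodule.mem_bot K).1 this
  -- the orthogonal of `J`
  have hperp : ∀ a, (∀ j ∈ J, τ (a * j) = 0) → a ∈ J := by
    intro a ha
    by_contra haJ
    have h1 : ∀ j ∈ J, a * j = 0 := by
      intro j hj
      apply hnd
      intro b
      rw [mul_assoc]
      exact ha _ (hJr b j hj)
    -- some entry of `π a` is nonzero
    have h2 : ∃ i k, π a i k ≠ 0 := by
      by_contra hcon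
      push Not at hcon
      apply haJ
      rw [hJ]
      ext i k
      rw [hcon i k]
      rfl
    obtain ⟨i, k, hik⟩ := h2
    choose u hu using fun l : Fin n => hπ (Matrix.single l i 1)
    choose v hv using fun l : Fin n => hπ (Matrix.single k l 1)
    have h3 : π (∑ l, u l * a * v l) = (π a i k) • 1 := by
      rw [map_sum]
      have h4 : ∀ l, π (u l * a * v l) = π a i k • Matrix.single l l 1 := by
        intro l
        rw [map_mul, map_mul, hu, hv, Matrix.single_mul_mul_single, one_mul, mul_one,
          Matrix.smul_single, smul_eq_mul, mul_one]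
      rw [Finset.sum_congr rfl fun l _ => h4 l, ← Finset.smul_sum, Matrix.sum_single_one]
    have h5 : (1 : A) - (π a i k)⁻¹ • ∑ l, u l * a * v l ∈ J := by
      rw [hJ, map_sub, map_smul, h3, smul_smul, inv_mul_cancel₀ hik, one_smul, map_one, sub_self]
    apply hJ0
    rw [eq_bot_iff]
    intro j hj
    rw [Submodule.mem_bot]
    have h6 := hmul0 _ h5 j hj
    rw [sub_mul, one_mul, smul_mul_assoc, Finset.sum_mul] at h6
    have h7 : ∑ l, u l * a * v l * j = 0 := by
      refine Finset.sum_eq_zero fun l _ => ?_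
      rw [mul_assoc, mul_assoc, h1 _ (hJl _ _ hj), mul_zero]
    rwa [h7, smul_zero, sub_zero] at h6
  -- dimensions
  let Ψ : A →ₗ[K] Dual K A := (LinearMap.mul K A).compr₂ τ
  have hΨ : ∀ a b, Ψ a b = τ (a * b) := fun a b => rfl
  have hΨinj : Function.Injective Ψ := by
    rw [injective_iff_map_eq_zero]
    intro a ha
    apply hnd
    intro b
    rw [← hΨ, ha]
    rfl
  have hΨsurj : Function.Surjective Ψ :=
    (LinearMap.injective_iff_surjective_of_finrank_eq_finrank
      (Subspace.dual_finrank_eq (K := K) (V := A)).symm).1 hΨinj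
  let Φ : A →ₗ[K] Dual K J := (Submodule.dualRestrict J).comp Ψ
  have hΦsurj : Function.Surjective Φ := by
    show Function.Surjective ((Submodule.dualRestrict J) ∘ Ψ)
    exact Subspace.dualRestrict_surjective.comp hΨsurj
  have hΦker : LinearMap.ker Φ = J := by
    ext a
    rw [LinearMap.mem_ker]
    constructor
    · intro h
      apply hperp
      intro j hj
      have h1 := LinearMap.congr_fun h ⟨j, hj⟩
      exact h1
    · intro ha
      ext j
      show τ (a * j) = 0
      rw [hmul0 a ha j j.2, map_zero]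
  have e1 := LinearMap.finrank_range_add_finrank_ker Φ
  rw [hΦker, LinearMap.range_eq_top.2 hΦsurj, finrank_top, Subspace.dual_finrank_eq] at e1
  have e2 := LinearMap.finrank_range_add_finrank_ker π.toLinearMap
  rw [← hJdef, LinearMap.range_eq_top.2 hπ, finrank_top, finrank_matrix, finrank_self] at e2
  simp only [Fintype.card_fin, mul_one] at e2
  nlinarith

/-- A finite-dimensional algebra over an algebraically closed field with two-dimensional space of
trace functions, one of them nondegenerate, in which every central element is a scalar plus a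
nilpotent element, has dimension `2 n²`. -/
theorem finrank_eq_two_mul_sq [IsAlgClosed K] [FiniteDimensional K A] (hT : finrank K (tf K A) = 2)
    {τ : Dual K A} (hτ : τ ∈ tf K A) (hnd : ∀ a, (∀ b, τ (a * b) = 0) → a = 0)
    (hcon : ∀ z : A, (∀ b, z * b = b * z) → ∃ c : K, IsNilpotent (z - algebraMap K A c)) :
    ∃ n : ℕ, finrank K A = 2 * n ^ 2 := by
  classical
  have : IsArtinianRing A := IsArtinianRing.of_finite K A
  have hss : IsSemisimpleRing (A ⧸ Ring.jacobson A) := inferInstance
  obtain ⟨m, d, hd, ⟨ε⟩⟩ := IsSemisimpleRing.exists_algEquiv_pi_matrix_of_isAlgClosed K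
    (A ⧸ Ring.jacobson A)
  let q : A →ₐ[K] A ⧸ Ring.jacobson A := Ideal.Quotient.mkₐ K (Ring.jacobson A)
  let ρ : A →ₐ[K] Π i, Matrix (Fin (d i)) (Fin (d i)) K := (ε : _ →ₐ[K] _).comp q
  have hq : Function.Surjective q := Ideal.Quotient.mkₐ_surjective K _
  have hρ : Function.Surjective ρ := ε.surjective.comp hq
  have hρ0 : ∀ a, ρ a = 0 ↔ a ∈ Ring.jacobson A := by
    intro a
    show ε (q a) = 0 ↔ _
    rw [EmbeddingLike.map_eq_zero_iff]
    exact Ideal.Quotient.eq_zero_iff_mem
  obtain ⟨N, hN⟩ : IsNilpotent (Ring.jacobson A) := IsSemiprimaryRing.isNilpotent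
  have hnil : (LinearMap.ker ρ.toLinearMap) ^ N = ⊥ := by
    have h1 : ∀ k : ℕ, ∀ a ∈ (LinearMap.ker ρ.toLinearMap) ^ k, a ∈ (Ring.jacobson A) ^ k := by
      intro k
      induction k with
      | zero =>
        intro a _
        rw [Submodule.pow_zero, Ideal.one_eq_top]
        exact Submodule.mem_top
      | succ k ih =>
        intro a ha
        rw [pow_succ] at ha
        rw [Submodule.pow_succ]
        induction ha using Submodule.mul_induction_on' with
        | mem_mul_mem x hx y hy =>
          exact Ideal.mul_mem_mul (ih x hx) ((hρ0 y).1 (LinearMap.mem_ker.1 hy))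
        | add x hx y hy h1 h2 => exact Submodule.add_mem _ h1 h2
    rw [eq_bot_iff]
    intro a ha
    have h2 := h1 N a ha
    rw [hN] at h2
    exact h2
  -- the traces of the factors
  let t : Fin m → Dual K A := fun i => (Matrix.traceLinearMap (Fin (d i)) K K).comp
    ((LinearMap.proj i).comp ρ.toLinearMap)
  have hti : ∀ i a, t i a = Matrix.trace (ρ a i) := fun i a => rfl
  have ht : ∀ i, t i ∈ tf K A := by
    intro i a b
    rw [hti, hti, map_mul, map_mul, Pi.mul_apply, Pi.mul_apply, Matrix.trace_mul_comm]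
  have htli : LinearIndependent K t := by
    rw [Fintype.linearIndependent_iff]
    intro c hc i
    have := hd i
    obtain ⟨a, ha⟩ := hρ (Pi.single i (Matrix.single 0 0 1))
    have h1 := LinearMap.congr_fun hc a
    rw [LinearMap.sum_apply, Finset.sum_eq_single i] at h1
    · rw [LinearMap.smul_apply, hti, ha, Pi.single_eq_same, Matrix.trace_single_eq_same, smul_eq_mul,
        mul_one] at h1
      exact h1
    · intro j _ hj
      rw [LinearMap.smul_apply, hti, ha, Pi.single_eq_of_ne hj, Matrix.trace_zero, smul_zero]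
    · intro h
      exact absurd (Finset.mem_univ i) h
  have hm2 : m ≤ 2 := by
    let t' : Fin m → tf K A := fun i => ⟨t i, ht i⟩
    have h1 : LinearIndependent K t' := by
      apply LinearIndependent.of_comp (tf K A).subtype
      exact htli
    have h2 := h1.fintype_card_le_finrank
    rw [hT, Fintype.card_fin] at h2
    exact h2
  have hm0 : m ≠ 0 := by
    rintro rfl
    have h1 : ∀ a : A, a = 0 := by
      intro a
      have h2 : (1 : A) ∈ (LinearMap.ker ρ.toLinearMap) := by
        rw [LinearMap.mem_ker]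
        exact Subsingleton.elim _ _
      have h3 : (1 : A) ^ N ∈ (LinearMap.ker ρ.toLinearMap) ^ N := Submodule.pow_mem_pow _ h2 N
      rw [hnil, one_pow] at h3
      rw [← one_mul a, (Submodule.mem_bot K).1 h3, zero_mul]
    have h2 : tf K A = ⊥ := by
      rw [eq_bot_iff]
      intro f _
      rw [Submodule.mem_bot]
      ext a
      rw [h1 a, map_zero]
      rfl
    rw [h2, finrank_bot] at hT
    omega
  have hm : m ≠ 2 := by
    rintro rfl
    -- all trace functions vanish on the radical
    have h1 : Submodule.span K (Set.range t) = tf K A := by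
      apply Submodule.eq_of_le_of_finrank_eq
      · rw [Submodule.span_le]
        rintro _ ⟨i, rfl⟩
        exact ht i
      · rw [hT, finrank_span_eq_card htli, Fintype.card_fin]
    have h2 : ∀ a, ρ a = 0 → a = 0 := by
      intro a ha
      apply hnd
      intro b
      have h3 : ρ (a * b) = 0 := by rw [map_mul, ha, zero_mul]
      rw [← h1] at hτ
      obtain ⟨c, hc⟩ := (Submodule.mem_span_range_iff_exists_fun K).1 hτ
      rw [← hc, LinearMap.sum_apply]
      refine Finset.sum_eq_zero fun i _ => ?_
      rw [LinearMap.smul_apply, hti, h3, Pi.zero_apply, Matrix.trace_zero, smul_zero]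
    have hinj : Function.Injective ρ := (injective_iff_map_eq_zero ρ).2 h2
    obtain ⟨z, hz⟩ := hρ (Pi.single 0 1)
    obtain ⟨c, k, hc⟩ := hcon z (by
      intro b
      apply hinj
      rw [map_mul, map_mul, hz]
      funext i
      rw [Pi.mul_apply, Pi.mul_apply]
      by_cases hi : i = 0
      · subst hi
        rw [Pi.single_eq_same, one_mul, mul_one]
      · rw [Pi.single_eq_of_ne hi, zero_mul, mul_zero])
    have h3 : ∀ i : Fin 2, ((Pi.single 0 1 : Π i, Matrix (Fin (d i)) (Fin (d i)) K) i -
        algebraMap K _ c) ^ k = 0 := by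
      intro i
      have h4 := congrFun (congrArg ρ hc) i
      rw [map_pow, map_sub, hz, map_zero, AlgHom.commutes] at h4
      exact h4
    have hnt : ∀ i : Fin 2, Nontrivial (Matrix (Fin (d i)) (Fin (d i)) K) := by
      intro i
      have := hd i
      infer_instance
    have h5 : (1 : K) - c = 0 := by
      have h6 := h3 0
      rw [Pi.single_eq_same, ← map_one (algebraMap K (Matrix (Fin (d 0)) (Fin (d 0)) K)), ← map_sub,
        ← map_pow, map_eq_zero_iff _ (algebraMap K (Matrix (Fin (d 0)) (Fin (d 0)) K)).injective] at h6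
      exact eq_zero_of_pow_eq_zero h6
    have h7 : c = 0 := by
      have h6 := h3 1
      rw [Pi.single_eq_of_ne (by decide), zero_sub, ← map_neg, ← map_pow,
        map_eq_zero_iff _ (algebraMap K (Matrix (Fin (d 1)) (Fin (d 1)) K)).injective] at h6
      have h8 := eq_zero_of_pow_eq_zero h6
      exact neg_eq_zero.1 h8
    rw [h7, sub_zero] at h5
    exact one_ne_zero h5
  obtain rfl : m = 1 := by omega
  have := hd 0
  let π : A →ₐ[K] Matrix (Fin (d 0)) (Fin (d 0)) K := (Pi.evalAlgHom K _ 0).comp ρ
  have hπ : Function.Surjective π := by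
    intro x
    obtain ⟨a, ha⟩ := hρ (Pi.single 0 x)
    refine ⟨a, ?_⟩
    show ρ a 0 = x
    rw [ha, Pi.single_eq_same]
  have hker : LinearMap.ker π.toLinearMap = LinearMap.ker ρ.toLinearMap := by
    ext a
    rw [LinearMap.mem_ker, LinearMap.mem_ker]
    constructor
    · intro h
      show ρ a = 0
      funext i
      obtain rfl : i = 0 := Subsingleton.elim _ _
      exact h
    · intro h
      show ρ a 0 = 0
      have h' : ρ a = 0 := h
      rw [h']
      rfl
  exact ⟨d 0, finrank_of_surjective_matrix π hπ (N := N) (by rw [hker]; exact hnil) hT hτ hnd⟩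

end Cfsg.Agent.H382.SymAlg
end

-- part: H382/BlockDim
section
/-!
# The dimension of the block algebra over the residue field

`K = ResField M`, `e = idem M B` the idempotent of the block `B` in `K[G]`.

* `rank_red`: an idempotent matrix over the local ring at `M` and its reduction have the same rank;
* `finrank_range_mulLeft`: `dim K[G] e = ∑ χ ∈ B, χ(1)²`;
* `finrank_tf`: the space of trace functions `f` of `K[G]` with `f (e a) = f a` has dimension `|B|`;
* `exists_sum_sq_eq`: if `|B| = 2` then `∑ χ ∈ B, χ(1)² = 2 n²` for some natural number `n`.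
-/

set_option autoImplicit false

open Cfsg

namespace Cfsg.Agent.H382.BlockDim

open Module
open Cfsg.Agent.Blocks.Local Cfsg.Agent.Blocks.ConvCentral Cfsg.Agent.Blocks.MinMax
open Cfsg.Agent.Blocks.BlockRank Cfsg.Agent.H644 Cfsg.Agent.Characters.Core
open scoped ComplexConjugate

section rank

/-- The ranks of an idempotent matrix and of its complement. -/
theorem finrank_add {k X : Type*} [Field k] [Fintype X] [DecidableEq X] {F : Matrix X X k}
    (hF : F * F = F) : finrank k (LinearMap.range F.mulVecLin) +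
      finrank k (LinearMap.range (1 - F).mulVecLin) = Fintype.card X := by
  have h1 : IsIdempotentElem F.mulVecLin := by
    rw [IsIdempotentElem, Module.End.mul_eq_comp, ← Matrix.mulVecLin_mul, hF]
  have h2 : (1 - F).mulVecLin = 1 - F.mulVecLin := by
    ext v
    simp
  rw [h2, ← LinearMap.IsIdempotentElem.ker_eq_range_one_sub h1, LinearMap.finrank_range_add_finrank_ker,
    Module.finrank_fintype_fun_eq_card]

variable {M : Ideal AlgInt} [hP : M.IsPrime] {X : Type*} [Fintype X] [DecidableEq X]

omit [DecidableEq X] in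
theorem map_mul_map {F : Matrix X X ℂ} (hF : ∀ x y, MemLocalRing M (F x y)) (hFF : F * F = F) :
    F.map (redC M) * F.map (redC M) = F.map (redC M) := by
  ext x y
  rw [Matrix.mul_apply, Matrix.map_apply]
  conv_rhs => rw [← hFF, Matrix.mul_apply]
  rw [redC_sum fun z _ => memLocalRing_mul (hF x z) (hF z y)]
  refine Finset.sum_congr rfl fun z _ => ?_
  rw [redC_mul (hF x z) (hF z y)]
  rfl

omit [DecidableEq X] in
theorem rank_le {F : Matrix X X ℂ} (hF : ∀ x y, MemLocalRing M (F x y)) (hFF : F * F = F) :
    finrank (ResField M) (LinearMap.range (F.map (redC M)).mulVecLin) ≤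
      finrank ℂ (LinearMap.range F.mulVecLin) := by
  classical
  let b := Module.finBasis (ResField M) (LinearMap.range (F.map (redC M)).mulVecLin)
  have hlift : ∀ c : ResField M, ∃ z : ℂ, MemLocalRing M z ∧ redC M z = c := by
    intro c
    obtain ⟨⟨z, hz⟩, rfl⟩ := red_surjective c
    exact ⟨z, hz, redC_def hz⟩
  choose s hs hs' using hlift
  let v : Fin (finrank (ResField M) (LinearMap.range (F.map (redC M)).mulVecLin)) → X → ℂ :=
    fun i x => s ((b i : X → ResField M) x)
  let w : Fin (finrank (ResField M) (LinearMap.range (F.map (redC M)).mulVecLin)) → X → ℂ :=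
    fun i => F.mulVec (v i)
  have hwR : ∀ i x, MemLocalRing M (w i x) := by
    intro i x
    show MemLocalRing M (∑ y, F x y * v i y)
    exact memLocalRing_sum fun y _ => memLocalRing_mul (hF x y) (hs _)
  have hfix : ∀ u ∈ LinearMap.range (F.map (redC M)).mulVecLin, (F.map (redC M)).mulVec u = u := by
    rintro _ ⟨u, rfl⟩
    rw [Matrix.mulVecLin_apply, Matrix.mulVec_mulVec, map_mul_map hF hFF]
  have hwr : (fun i x => redC M (w i x)) = fun i => (b i : X → ResField M) := by
    funext i x
    show redC M (∑ y, F x y * v i y) = _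
    rw [redC_sum fun y _ => memLocalRing_mul (hF x y) (hs _)]
    conv_rhs => rw [← hfix _ (b i).2]
    rw [Matrix.mulVec, dotProduct]
    refine Finset.sum_congr rfl fun y _ => ?_
    rw [redC_mul (hF x y) (hs _), hs']
    rfl
  have hli : LinearIndependent ℂ w := by
    apply linearIndependent_of_redC (M := M) w hwR
    rw [hwr]
    exact b.linearIndependent.map' (Submodule.subtype _) (Submodule.ker_subtype _)
  let w' : Fin (finrank (ResField M) (LinearMap.range (F.map (redC M)).mulVecLin)) →
      LinearMap.range F.mulVecLin := fun i => ⟨w i, ⟨v i, rfl⟩⟩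
  have hli' : LinearIndependent ℂ w' := by
    apply LinearIndependent.of_comp (LinearMap.range F.mulVecLin).subtype
    exact hli
  have h1 := hli'.fintype_card_le_finrank
  rwa [Fintype.card_fin] at h1

/-- An idempotent matrix over the local ring and its reduction have the same rank. -/
theorem rank_red {F : Matrix X X ℂ} (hF : ∀ x y, MemLocalRing M (F x y)) (hFF : F * F = F) :
    finrank (ResField M) (LinearMap.range (F.map (redC M)).mulVecLin) =
      finrank ℂ (LinearMap.range F.mulVecLin) := by
  classical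
  have h1 := rank_le hF hFF
  have hF' : ∀ x y, MemLocalRing M ((1 - F) x y) := by
    intro x y
    rw [Matrix.sub_apply, Matrix.one_apply]
    refine memLocalRing_sub ?_ (hF x y)
    split_ifs
    · exact memLocalRing_one
    · exact memLocalRing_zero
  have hFF' : (1 - F) * (1 - F) = 1 - F := by
    rw [mul_sub, sub_mul, sub_mul, hFF, one_mul, mul_one, one_mul]
    abel
  have h2 := rank_le hF' hFF'
  have h3 : (1 - F).map (redC M) = 1 - F.map (redC M) := by
    ext x y
    have h4 : MemLocalRing M ((1 : Matrix X X ℂ) x y) := by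
      rw [Matrix.one_apply]
      split_ifs
      · exact memLocalRing_one
      · exact memLocalRing_zero
    rw [Matrix.map_apply, Matrix.sub_apply, Matrix.sub_apply, Matrix.map_apply, redC_sub h4 (hF x y)]
    congr 1
    rw [Matrix.one_apply, Matrix.one_apply]
    split_ifs
    · exact redC_one
    · exact redC_zero
  rw [h3] at h2
  have h5 := finrank_add hFF
  have h6 := finrank_add (map_mul_map hF hFF)
  omega

/-- The rank of an idempotent matrix in characteristic zero is its trace. -/
theorem rank_eq_trace {F : Matrix X X ℂ} (hFF : F * F = F) :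
    ((finrank ℂ (LinearMap.range F.mulVecLin) : ℕ) : ℂ) = F.trace := by
  have h1 : IsIdempotentElem F.mulVecLin := by
    rw [IsIdempotentElem, Module.End.mul_eq_comp, ← Matrix.mulVecLin_mul, hFF]
  have h2 := (LinearMap.isProj_range_iff_isIdempotentElem F.mulVecLin).2 h1
  rw [← LinearMap.IsProj.trace h2]
  exact Matrix.trace_toLin'_eq F

end rank

section quot

universe u v

variable {K : Type u} {A : Type v} [Field K] [Ring A] [Algebra K A]

/-- The quotient of an algebra by the annihilator of a central element. -/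
theorem exists_quot (e : A) (he : ∀ a, e * a = a * e) :
    ∃ (L : Type v) (_ : Ring L) (_ : Algebra K L) (q : A →ₐ[K] L),
      Function.Surjective q ∧ ∀ a, q a = 0 ↔ e * a = 0 := by
  let I : Ideal A :=
    { carrier := {a | e * a = 0}
      add_mem' := by
        intro a b ha hb
        show e * (a + b) = 0
        rw [mul_add, ha, hb, add_zero]
      zero_mem' := mul_zero e
      smul_mem' := by
        intro c a ha
        show e * (c * a) = 0
        rw [← mul_assoc, he, mul_assoc, ha, mul_zero] }
  have hI : I.IsTwoSided := ⟨by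
    intro a b ha
    show e * (a * b) = 0
    rw [← mul_assoc, ha, zero_mul]⟩
  refine ⟨A ⧸ I, inferInstance, inferInstance, Ideal.Quotient.mkₐ K I,
    Ideal.Quotient.mkₐ_surjective K _, fun a => ?_⟩
  exact Ideal.Quotient.eq_zero_iff_mem

end quot

section coeffEquiv

variable {K : Type*} [Field K] {G : Type*} [Group G] [Finite G]

/-- The coefficients, as a linear equivalence. -/
noncomputable def coeffEquiv : MonoidAlgebra K G ≃ₗ[K] (G → K) where
  toFun x g := x.coeff g
  map_add' x y := by
    funext g
    simp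
  map_smul' k x := by
    funext g
    simp
  invFun f := mkA f
  left_inv x := mkA_coeff x
  right_inv f := rfl

end coeffEquiv

section block

variable {G : Type*} [Group G] [Fintype G]

theorem conv_blockCoeff (B : Set (IrrCharacter G)) :
    conv (blockCoeff B) (blockCoeff B) = blockCoeff B := by
  classical
  refine eq_of_omega (isClassFunction_conv (isClassFunction_blockCoeff B)
    (isClassFunction_blockCoeff B)) (isClassFunction_blockCoeff B) fun χ hχ => ?_
  rw [omega_conv hχ (isClassFunction_blockCoeff B)]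
  have h1 := omega_blockCoeff B ⟨χ, hχ⟩
  simp only at h1
  rw [h1]
  split_ifs <;> simp

/-- The matrix of the multiplication by the block idempotent. -/
noncomputable def mulMat (B : Set (IrrCharacter G)) : Matrix G G ℂ :=
  fun x y => blockCoeff B (x * y⁻¹)

theorem mulMat_mul (B : Set (IrrCharacter G)) : mulMat B * mulMat B = mulMat B := by
  ext x z
  rw [Matrix.mul_apply]
  show ∑ y, blockCoeff B (x * y⁻¹) * blockCoeff B (y * z⁻¹) = blockCoeff B (x * z⁻¹)
  conv_rhs => rw [← conv_blockCoeff B, conv_apply]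
  refine Fintype.sum_equiv ((Equiv.inv G).trans (Equiv.mulLeft x)) _ _ fun y => ?_
  show _ = blockCoeff B (x * y⁻¹) * blockCoeff B ((x * y⁻¹)⁻¹ * (x * z⁻¹))
  congr 2
  group

theorem card_mul_blockCoeff_one (B : Set (IrrCharacter G)) :
    (Nat.card G : ℂ) * blockCoeff B 1 = ∑ᶠ χ ∈ B, (χ : G → ℂ) 1 * conj ((χ : G → ℂ) 1) := by
  rw [blockCoeff, ← mul_assoc, mul_inv_cancel₀, one_mul]
  exact_mod_cast Nat.card_pos.ne'

theorem trace_mulMat (B : Set (IrrCharacter G)) :
    (mulMat B).trace = ∑ᶠ χ ∈ B, (χ : G → ℂ) 1 * conj ((χ : G → ℂ) 1) := by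
  rw [← card_mul_blockCoeff_one, Matrix.trace]
  have h1 : ∀ x : G, (mulMat B).diag x = blockCoeff B 1 := by
    intro x
    show blockCoeff B (x * x⁻¹) = _
    rw [mul_inv_cancel]
  rw [Finset.sum_congr rfl fun x _ => h1 x, Finset.sum_const, Finset.card_univ, nsmul_eq_mul,
    Nat.card_eq_fintype_card]

variable {p : ℕ} {M : Ideal AlgInt} [hP : M.IsPrime]

/-- The dimension of the block algebra over the residue field. -/
theorem finrank_range_mulLeft (hM : IsPModular p M) {B : Set (IrrCharacter G)} (hB : IsPBlock M B) :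
    ((finrank (ResField M) (LinearMap.range (LinearMap.mulLeft (ResField M) (idem M B))) : ℕ) : ℂ) =
      ∑ᶠ χ ∈ B, (χ : G → ℂ) 1 * conj ((χ : G → ℂ) 1) := by
  classical
  have hR : ∀ x y, MemLocalRing M (mulMat B x y) := fun x y =>
    H644.memLocalRing_blockCoeff hM (isUnion_of_isPBlock hB) _
  rw [← trace_mulMat, ← rank_eq_trace (mulMat_mul B), ← rank_red hR (mulMat_mul B)]
  congr 1
  let c : MonoidAlgebra (ResField M) G ≃ₗ[ResField M] (G → ResField M) := coeffEquiv
  have h1 : (c : MonoidAlgebra (ResField M) G →ₗ[ResField M] (G → ResField M)) ∘ₗ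
      LinearMap.mulLeft (ResField M) (idem M B) =
      ((mulMat B).map (redC M)).mulVecLin ∘ₗ
        (c : MonoidAlgebra (ResField M) G →ₗ[ResField M] (G → ResField M)) := by
    refine LinearMap.ext fun x => funext fun y => ?_
    show (idem M B * x).coeff y = ∑ z, (mulMat B).map (redC M) y z * x.coeff z
    rw [coeff_mul_eq_sum]
    refine Fintype.sum_equiv ((Equiv.inv G).trans (Equiv.mulRight y)) _ _ fun a => ?_
    show redC M (blockCoeff B a) * _ = redC M (blockCoeff B (y * (a⁻¹ * y)⁻¹)) * x.coeff (a⁻¹ * y)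
    congr 3
    group
  have h2 := congrArg (fun f => finrank (ResField M) (LinearMap.range f)) h1
  rw [LinearMap.range_comp, LinearMap.range_comp_of_range_eq_top _ (LinearEquiv.range c)] at h2
  rw [← h2]
  exact (LinearEquiv.finrank_map_eq c _).symm

/-- The matrix of the multiplication by the block idempotent on class functions. -/
noncomputable def classMat [DecidableEq (ConjClasses G)] (B : Set (IrrCharacter G)) :
    Matrix (ConjClasses G) (ConjClasses G) ℂ :=
  fun c c' => ∑ h : G, if ConjClasses.mk (h * crep c) = c' then blockCoeff B h else 0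

variable [Fintype (ConjClasses G)] [DecidableEq (ConjClasses G)]

theorem classMat_mulVec (B : Set (IrrCharacter G)) (φ : ConjClasses G → ℂ) (c : ConjClasses G) :
    (classMat B).mulVec φ c = blockOp B (fun g => φ (ConjClasses.mk g)) (crep c) := by
  show ∑ c', (∑ h : G, if ConjClasses.mk (h * crep c) = c' then blockCoeff B h else 0) * φ c' =
    ∑ h, blockCoeff B h * φ (ConjClasses.mk (h * crep c))
  simp only [Finset.sum_mul]
  rw [Finset.sum_comm]
  refine Finset.sum_congr rfl fun h _ => ?_
  simp only [ite_mul, zero_mul]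
  rw [Finset.sum_ite_eq, if_pos (Finset.mem_univ _)]

omit [Fintype G] [Fintype (ConjClasses G)] [DecidableEq (ConjClasses G)] in
theorem isClassFunction_mk (φ : ConjClasses G → ℂ) :
    IsClassFunction G (fun g => φ (ConjClasses.mk g)) := by
  intro g h
  show φ (ConjClasses.mk (h * g * h⁻¹)) = φ (ConjClasses.mk g)
  congr 1
  rw [ConjClasses.mk_eq_mk_iff_isConj]
  exact (isConj_iff.2 ⟨h, rfl⟩).symm

omit [Fintype (ConjClasses G)] [DecidableEq (ConjClasses G)] in
theorem blockOp_eq_self (B : Set (IrrCharacter G)) {f : G → ℂ}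
    (hf : f ∈ Submodule.span ℂ ((fun χ : IrrCharacter G => (χ : G → ℂ)) '' B)) :
    blockOp B f = f := by
  classical
  have h1 : Submodule.span ℂ ((fun χ : IrrCharacter G => (χ : G → ℂ)) '' B) ≤
      LinearMap.eqLocus (blockOp B) LinearMap.id := by
    rw [Submodule.span_le]
    rintro _ ⟨χ, hχ, rfl⟩
    show blockOp B (χ : G → ℂ) = (χ : G → ℂ)
    rw [blockOp_irr, if_pos hχ, one_smul]
  exact h1 hf

omit [Fintype G] [Fintype (ConjClasses G)] [DecidableEq (ConjClasses G)] in
theorem isClassFunction_of_mem_span (B : Set (IrrCharacter G)) {f : G → ℂ}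
    (hf : f ∈ Submodule.span ℂ ((fun χ : IrrCharacter G => (χ : G → ℂ)) '' B)) :
    IsClassFunction G f := by
  induction hf using Submodule.span_induction with
  | mem x hx =>
    obtain ⟨χ, -, rfl⟩ := hx
    exact isIrr_isClassFunction χ.2
  | zero => exact fun _ _ => rfl
  | add x y _ _ hx hy => exact fun g h => by rw [Pi.add_apply, Pi.add_apply, hx, hy]
  | smul c x _ hx => exact fun g h => by rw [Pi.smul_apply, Pi.smul_apply, hx]

omit [DecidableEq (ConjClasses G)] [Fintype (ConjClasses G)] [Fintype G] in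
theorem crep_lift {f : G → ℂ} (hf : IsClassFunction G f) (g : G) :
    f (crep (ConjClasses.mk g)) = f g := by
  obtain ⟨t, ht⟩ := isConj_iff.1 (isConj_crep g)
  conv_rhs => rw [← ht]
  rw [hf]

theorem classMat_mul (B : Set (IrrCharacter G)) : classMat B * classMat B = classMat B := by
  have h1 : ∀ φ : ConjClasses G → ℂ,
      (classMat B).mulVec ((classMat B).mulVec φ) = (classMat B).mulVec φ := by
    intro φ
    funext c
    rw [classMat_mulVec, classMat_mulVec]
    have h2 := blockOp_mem_span B (isClassFunction_mk φ)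
    have h3 : (fun g => (classMat B).mulVec φ (ConjClasses.mk g)) =
        blockOp B (fun g => φ (ConjClasses.mk g)) := by
      funext g
      rw [classMat_mulVec, crep_lift (isClassFunction_of_mem_span B h2)]
    rw [h3, blockOp_eq_self B h2]
  apply Matrix.mulVec_injective
  funext φ
  rw [← Matrix.mulVec_mulVec, h1]

theorem finrank_classMat (B : Set (IrrCharacter G)) :
    finrank ℂ (LinearMap.range (classMat B).mulVecLin) = Nat.card B := by
  classical
  have : Finite (IrrCharacter G) := finite_irr
  have := Fintype.ofFinite (IrrCharacter G)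
  let ι : (ConjClasses G → ℂ) →ₗ[ℂ] (G → ℂ) :=
    { toFun := fun φ g => φ (ConjClasses.mk g)
      map_add' := fun _ _ => rfl
      map_smul' := fun _ _ => rfl }
  have hι : Function.Injective ι := by
    intro φ ψ h
    funext c
    have := congrFun h (crep c)
    have h' : φ (ConjClasses.mk (crep c)) = ψ (ConjClasses.mk (crep c)) := this
    rwa [mk_crep] at h'
  have h1 : (LinearMap.range (classMat B).mulVecLin).map ι =
      Submodule.span ℂ ((fun χ : IrrCharacter G => (χ : G → ℂ)) '' B) := by
    apply le_antisymm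
    · rintro _ ⟨_, ⟨φ, rfl⟩, rfl⟩
      have h2 := blockOp_mem_span B (isClassFunction_mk φ)
      have h3 : ι ((classMat B).mulVecLin φ) = blockOp B (fun g => φ (ConjClasses.mk g)) := by
        funext g
        show (classMat B).mulVec φ (ConjClasses.mk g) = _
        rw [classMat_mulVec, crep_lift (isClassFunction_of_mem_span B h2)]
      rw [h3]
      exact h2
    · intro f hf
      have hcf := isClassFunction_of_mem_span B hf
      let φ : ConjClasses G → ℂ := fun c => f (crep c)
      have hφ : (fun g => φ (ConjClasses.mk g)) = f := funext fun g => crep_lift hcf g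
      refine ⟨(classMat B).mulVecLin φ, ⟨φ, rfl⟩, ?_⟩
      funext g
      show (classMat B).mulVec φ (ConjClasses.mk g) = _
      rw [classMat_mulVec, hφ, blockOp_eq_self B hf, crep_lift hcf]
  have h2 := (Submodule.equivMapOfInjective ι hι (LinearMap.range (classMat B).mulVecLin)).finrank_eq
  rw [h2, h1]
  have h3 : (fun χ : IrrCharacter G => (χ : G → ℂ)) '' B =
      Set.range (fun χ : B => ((χ : IrrCharacter G) : G → ℂ)) := by
    rw [Set.image_eq_range]
  rw [h3, finrank_span_eq_card, Nat.card_eq_fintype_card]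
  exact irr_linearIndependent.comp _ Subtype.val_injective

omit [Fintype (ConjClasses G)] in
theorem memLocalRing_classMat (hM : IsPModular p M) {B : Set (IrrCharacter G)} (hB : IsPBlock M B)
    (c c' : ConjClasses G) : MemLocalRing M (classMat B c c') := by
  refine memLocalRing_sum fun h _ => ?_
  split_ifs
  · exact H644.memLocalRing_blockCoeff hM (isUnion_of_isPBlock hB) _
  · exact memLocalRing_zero

theorem map_classMat_mulVec (hM : IsPModular p M) {B : Set (IrrCharacter G)} (hB : IsPBlock M B)
    (φ : ConjClasses G → ResField M) (c : ConjClasses G) :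
    ((classMat B).map (redC M)).mulVec φ c =
      ∑ h : G, (idem M B).coeff h * φ (ConjClasses.mk (h * crep c)) := by
  show ∑ c', redC M (∑ h : G, if ConjClasses.mk (h * crep c) = c' then blockCoeff B h else 0) * φ c' =
    ∑ h, redC M (blockCoeff B h) * φ (ConjClasses.mk (h * crep c))
  have h1 : ∀ c' : ConjClasses G,
      redC M (∑ h : G, if ConjClasses.mk (h * crep c) = c' then blockCoeff B h else 0) =
        ∑ h : G, if ConjClasses.mk (h * crep c) = c' then redC M (blockCoeff B h) else 0 := by
    intro c'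
    rw [redC_sum]
    · refine Finset.sum_congr rfl fun h _ => ?_
      split_ifs
      · rfl
      · exact redC_zero
    · intro h _
      split_ifs
      · exact H644.memLocalRing_blockCoeff hM (isUnion_of_isPBlock hB) _
      · exact memLocalRing_zero
  simp only [h1, Finset.sum_mul]
  rw [Finset.sum_comm]
  refine Finset.sum_congr rfl fun h _ => ?_
  simp only [ite_mul, zero_mul]
  rw [Finset.sum_ite_eq, if_pos (Finset.mem_univ _)]

end block

section traces

variable {G : Type*} [Group G] [Finite G] {p : ℕ} {M : Ideal AlgInt} [hP : M.IsPrime]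

/-- Multiplying by the idempotent of a block does not change the image in the block algebra. -/
theorem map_idem_mul (hM : IsPModular p M) {B : Set (IrrCharacter G)} (hB : IsPBlock M B)
    {L : Type*} [Ring L] [Algebra (ResField M) L] (q : MonoidAlgebra (ResField M) G →ₐ[ResField M] L)
    (hq0 : ∀ a, q a = 0 ↔ idem M B * a = 0) (a : MonoidAlgebra (ResField M) G) :
    q (idem M B * a) = q a := by
  rw [← sub_eq_zero, ← map_sub, hq0, mul_sub, ← mul_assoc,
    idem_mul_self hM (isUnion_of_isPBlock hB), sub_self]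

/-- The space of trace functions of the block algebra has dimension `|B|`. -/
theorem finrank_tf (hM : IsPModular p M) {B : Set (IrrCharacter G)} (hB : IsPBlock M B)
    {L : Type*} [Ring L] [Algebra (ResField M) L] (q : MonoidAlgebra (ResField M) G →ₐ[ResField M] L)
    (hq : Function.Surjective q) (hq0 : ∀ a, q a = 0 ↔ idem M B * a = 0) :
    finrank (ResField M) (SymAlg.tf (ResField M) L) = Nat.card B := by
  classical
  have := Fintype.ofFinite G
  have := Fintype.ofFinite (ConjClasses G)
  have hsingle : ∀ a : MonoidAlgebra (ResField M) G,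
      a = ∑ g : G, a.coeff g • MonoidAlgebra.single g (1 : ResField M) := by
    intro a
    refine ext_coeff fun x => ?_
    rw [MonoidAlgebra.coeff_sum, Finsupp.finsetSum_apply, Finset.sum_eq_single x]
    · simp
    · intro y _ hy
      simp [MonoidAlgebra.coeff_single, hy]
    · intro h
      exact absurd (Finset.mem_univ x) h
  rw [← finrank_classMat B, ← rank_red (memLocalRing_classMat hM hB) (classMat_mul B)]
  -- trace functions as functions on the classes
  let Θ : SymAlg.tf (ResField M) L →ₗ[ResField M] (ConjClasses G → ResField M) :=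
    { toFun := fun f c => (f : Dual (ResField M) L) (q (MonoidAlgebra.single (crep c) 1))
      map_add' := fun _ _ => rfl
      map_smul' := fun _ _ => rfl }
  have hcls : ∀ (f : SymAlg.tf (ResField M) L) (g : G),
      (f : Dual (ResField M) L) (q (MonoidAlgebra.single g 1)) = Θ f (ConjClasses.mk g) := by
    intro f g
    show _ = (f : Dual (ResField M) L) (q (MonoidAlgebra.single (crep (ConjClasses.mk g)) 1))
    obtain ⟨t, ht⟩ := isConj_iff.1 (isConj_crep g)
    have h1 : (MonoidAlgebra.single g (1 : ResField M)) =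
        MonoidAlgebra.single (t * crep (ConjClasses.mk g)) 1 * MonoidAlgebra.single t⁻¹ 1 := by
      rw [MonoidAlgebra.single_mul_single, mul_one, ht]
    have h2 : (MonoidAlgebra.single (crep (ConjClasses.mk g)) (1 : ResField M)) =
        MonoidAlgebra.single t⁻¹ 1 * MonoidAlgebra.single (t * crep (ConjClasses.mk g)) 1 := by
      rw [MonoidAlgebra.single_mul_single, mul_one, ← mul_assoc, inv_mul_cancel, one_mul]
    rw [h1, h2, map_mul q, map_mul q]
    exact f.2 _ _
  have hΘinj : Function.Injective Θ := by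
    rw [injective_iff_map_eq_zero]
    intro f hf
    apply Subtype.ext
    refine LinearMap.ext fun l => ?_
    obtain ⟨a, rfl⟩ := hq l
    rw [hsingle a, map_sum, map_sum]
    refine Finset.sum_eq_zero fun g _ => ?_
    rw [map_smul, map_smul, hcls, hf]
    simp
  have hrange : LinearMap.range Θ = LinearMap.range ((classMat B).map (redC M)).mulVecLin := by
    have hidem := map_mul_map (memLocalRing_classMat hM hB) (classMat_mul B)
    apply le_antisymm
    · rintro _ ⟨f, rfl⟩
      refine ⟨Θ f, ?_⟩
      rw [Matrix.mulVecLin_apply]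
      funext c
      rw [map_classMat_mulVec hM hB]
      show _ = (f : Dual (ResField M) L) (q (MonoidAlgebra.single (crep c) 1))
      rw [← map_idem_mul hM hB q hq0, hsingle (idem M B), Finset.sum_mul, map_sum, map_sum]
      refine Finset.sum_congr rfl fun h _ => ?_
      rw [smul_mul_assoc, MonoidAlgebra.single_mul_single, mul_one, map_smul, map_smul, hcls,
        smul_eq_mul, ← hsingle (idem M B)]
    · rintro _ ⟨ψ, rfl⟩
      set φ : ConjClasses G → ResField M := ((classMat B).map (redC M)).mulVecLin ψ with hφ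
      have hfix : ((classMat B).map (redC M)).mulVec φ = φ := by
        rw [hφ, Matrix.mulVecLin_apply, Matrix.mulVec_mulVec, hidem]
      -- the functional
      let F : MonoidAlgebra (ResField M) G →ₗ[ResField M] ResField M :=
        { toFun := fun a => ∑ g : G, a.coeff g * φ (ConjClasses.mk g)
          map_add' := by
            intro a b
            rw [← Finset.sum_add_distrib]
            refine Finset.sum_congr rfl fun g _ => ?_
            rw [MonoidAlgebra.coeff_add, Finsupp.add_apply, add_mul]
          map_smul' := by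
            intro k a
            rw [RingHom.id_apply, smul_eq_mul, Finset.mul_sum]
            refine Finset.sum_congr rfl fun g _ => ?_
            rw [MonoidAlgebra.coeff_smul, Finsupp.smul_apply, smul_eq_mul, mul_assoc] }
      have hFs : ∀ g, F (MonoidAlgebra.single g 1) = φ (ConjClasses.mk g) := by
        intro g
        show ∑ x : G, (MonoidAlgebra.single g (1 : ResField M)).coeff x * φ (ConjClasses.mk x) = _
        rw [Finset.sum_eq_single g]
        · simp
        · intro y _ hy
          simp [MonoidAlgebra.coeff_single, Ne.symm hy]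
        · intro h
          exact absurd (Finset.mem_univ g) h
      have hFmul : ∀ a b, F (a * b) = F (b * a) := by
        have h1 : ∀ g h : G, F (MonoidAlgebra.single g 1 * MonoidAlgebra.single h 1) =
            F (MonoidAlgebra.single h 1 * MonoidAlgebra.single g 1) := by
          intro g h
          rw [MonoidAlgebra.single_mul_single, MonoidAlgebra.single_mul_single, mul_one, hFs, hFs]
          congr 1
          rw [ConjClasses.mk_eq_mk_iff_isConj]
          exact isConj_iff.2 ⟨h, by group⟩
        intro a b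
        rw [hsingle a, hsingle b]
        simp only [Finset.sum_mul, Finset.mul_sum, map_sum, smul_mul_assoc, mul_smul_comm, map_smul,
          Finset.smul_sum]
        rw [Finset.sum_comm]
        refine Finset.sum_congr rfl fun g _ => Finset.sum_congr rfl fun h _ => ?_
        rw [h1, smul_comm]
      have hFe : ∀ a, F (idem M B * a) = F a := by
        have h1 : ∀ g : G, F (idem M B * MonoidAlgebra.single g 1) =
            F (MonoidAlgebra.single g 1) := by
          intro g
          obtain ⟨t, ht⟩ := isConj_iff.1 (isConj_crep g)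
          have h2 : (MonoidAlgebra.single g (1 : ResField M)) =
              MonoidAlgebra.single t 1 * (MonoidAlgebra.single (crep (ConjClasses.mk g)) 1 *
                MonoidAlgebra.single t⁻¹ 1) := by
            rw [MonoidAlgebra.single_mul_single, MonoidAlgebra.single_mul_single, mul_one, mul_one,
              ← mul_assoc, ht]
          have h3 : MonoidAlgebra.single (crep (ConjClasses.mk g)) (1 : ResField M) *
              MonoidAlgebra.single t⁻¹ 1 * MonoidAlgebra.single t 1 =
                MonoidAlgebra.single (crep (ConjClasses.mk g)) 1 := by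
            rw [MonoidAlgebra.single_mul_single, MonoidAlgebra.single_mul_single, mul_one, mul_one,
              inv_mul_cancel_right]
          have h4 : F (idem M B * MonoidAlgebra.single g 1) =
              F (idem M B * MonoidAlgebra.single (crep (ConjClasses.mk g)) 1) := by
            rw [h2, ← mul_assoc (idem M B), isCls_comm (isCls_idem B) (MonoidAlgebra.single t 1),
              mul_assoc, hFmul, mul_assoc, h3]
          have h5 : F (MonoidAlgebra.single g 1) =
              F (MonoidAlgebra.single (crep (ConjClasses.mk g)) 1) := by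
            rw [h2, hFmul, h3]
          rw [h4, h5, hFs, mk_crep]
          conv_rhs => rw [← hfix, map_classMat_mulVec hM hB]
          rw [hsingle (idem M B), Finset.sum_mul, map_sum]
          refine Finset.sum_congr rfl fun h _ => ?_
          rw [smul_mul_assoc, MonoidAlgebra.single_mul_single, mul_one, map_smul, hFs, smul_eq_mul,
            ← hsingle (idem M B)]
        intro a
        rw [hsingle a, Finset.mul_sum, map_sum, map_sum]
        refine Finset.sum_congr rfl fun g _ => ?_
        rw [mul_smul_comm, map_smul, map_smul, h1]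
      -- descend
      obtain ⟨s, hs⟩ := q.toLinearMap.exists_rightInverse_of_surjective (LinearMap.range_eq_top.2 hq)
      have hs' : ∀ l, q (s l) = l := fun l => LinearMap.congr_fun hs l
      have hFq : ∀ a b, q a = q b → F a = F b := by
        intro a b hab
        have h1 : idem M B * (a - b) = 0 := by
          rw [← hq0, map_sub, hab, sub_self]
        rw [← sub_eq_zero, ← map_sub, ← hFe, h1, map_zero]
      refine ⟨⟨F ∘ₗ s, ?_⟩, ?_⟩
      · intro x y
        show F (s (x * y)) = F (s (y * x))
        have h1 : F (s (x * y)) = F (s x * s y) := by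
          apply hFq
          rw [hs', map_mul, hs', hs']
        have h2 : F (s (y * x)) = F (s y * s x) := by
          apply hFq
          rw [hs', map_mul, hs', hs']
        rw [h1, h2, hFmul]
      · funext c
        show F (s (q (MonoidAlgebra.single (crep c) 1))) = φ c
        rw [hFq _ (MonoidAlgebra.single (crep c) 1) (hs' _), hFs, mk_crep]
  rw [← hrange]
  exact (LinearEquiv.ofInjective Θ hΘinj).finrank_eq

/-- The coefficient at `1` of a product is symmetric. -/
theorem coeff_mul_one_comm (x y : MonoidAlgebra (ResField M) G) :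
    (x * y).coeff 1 = (y * x).coeff 1 := by
  have := Fintype.ofFinite G
  rw [coeff_mul_eq_sum, coeff_mul_eq_sum]
  refine Fintype.sum_equiv (Equiv.inv G) _ _ fun a => ?_
  show _ = y.coeff a⁻¹ * x.coeff (a⁻¹⁻¹ * 1)
  rw [inv_inv, mul_one, mul_one, mul_comm]

/-- Blocks with two irreducible characters: the sum of the squares of the degrees is twice a square. -/
theorem exists_sum_sq_eq (hM : IsPModular p M) {B : Set (IrrCharacter G)} (hB : IsPBlock M B)
    (h2 : Nat.card B = 2) :
    ∃ n : ℕ, ∑ᶠ χ ∈ B, (χ : G → ℂ) 1 * conj ((χ : G → ℂ) 1) = 2 * (n : ℂ) ^ 2 := by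
  classical
  have := Fintype.ofFinite G
  have hmax : M.IsMaximal := isMaximal_of_isPModular hM
  have halg : IsAlgClosed (ResField M) := Cfsg.Agent.Blocks.CyclicAssembly.isAlgClosed_resField
  set e := idem M B with he
  have hec : ∀ a, e * a = a * e := isCls_comm (isCls_idem B)
  have hee : e * e = e := idem_mul_self hM (isUnion_of_isPBlock hB)
  obtain ⟨L, _, _, q, hq, hq0⟩ := exists_quot (K := ResField M) e hec
  have hqe : ∀ a, q (e * a) = q a := map_idem_mul hM hB q hq0
  have hqe1 : q e = 1 := by rw [← mul_one e, hqe, map_one]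
  have hfd : FiniteDimensional (ResField M) (MonoidAlgebra (ResField M) G) :=
    Module.Finite.equiv (coeffEquiv (K := ResField M) (G := G)).symm
  have hfdL : FiniteDimensional (ResField M) L := Module.Finite.of_surjective q.toLinearMap hq
  have hT := finrank_tf hM hB q hq hq0
  rw [h2] at hT
  obtain ⟨s, hs⟩ := q.toLinearMap.exists_rightInverse_of_surjective (LinearMap.range_eq_top.2 hq)
  have hs' : ∀ l, q (s l) = l := fun l => LinearMap.congr_fun hs l
  let F : MonoidAlgebra (ResField M) G →ₗ[ResField M] ResField M :=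
    { toFun := fun a => (e * a).coeff 1
      map_add' := by
        intro a b
        rw [mul_add, MonoidAlgebra.coeff_add, Finsupp.add_apply]
      map_smul' := by
        intro k a
        rw [RingHom.id_apply, mul_smul_comm, MonoidAlgebra.coeff_smul, Finsupp.smul_apply] }
  have hF : ∀ a, F a = (e * a).coeff 1 := fun a => rfl
  have hFmul : ∀ a b, F (a * b) = F (b * a) := by
    intro a b
    rw [hF, hF, ← mul_assoc, coeff_mul_one_comm, ← mul_assoc, ← hec b, mul_assoc]
  have hFq : ∀ a b, q a = q b → F a = F b := by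
    intro a b hab
    have h1 : e * (a - b) = 0 := by
      rw [← hq0, map_sub, hab, sub_self]
    rw [hF, hF, ← sub_eq_zero]
    rw [mul_sub, sub_eq_zero] at h1
    rw [h1, sub_self]
  let τ : Dual (ResField M) L := F ∘ₗ s
  have hτ : ∀ a, τ (q a) = F a := fun a => hFq _ _ (hs' _)
  have hτtf : τ ∈ SymAlg.tf (ResField M) L := by
    intro x y
    obtain ⟨a, rfl⟩ := hq x
    obtain ⟨b, rfl⟩ := hq y
    rw [← map_mul q, ← map_mul q, hτ, hτ, hFmul]
  have hnd : ∀ x : L, (∀ y, τ (x * y) = 0) → x = 0 := by
    intro x hx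
    obtain ⟨a, rfl⟩ := hq x
    rw [hq0]
    refine ext_coeff fun g => ?_
    have h1 := hx (q (MonoidAlgebra.single g⁻¹ 1))
    rw [← map_mul q, hτ, hF, ← mul_assoc, MonoidAlgebra.coeff_mul_single_apply, mul_one, inv_inv,
      one_mul] at h1
    rw [h1]
    simp
  have hcon : ∀ z : L, (∀ b, z * b = b * z) →
      ∃ c : ResField M, IsNilpotent (z - algebraMap (ResField M) L c) := by
    intro z hz
    obtain ⟨a, rfl⟩ := hq z
    have hcls : IsCls (e * a) := by
      apply isCls_of_comm
      intro b
      have h1 : e * (a * b - b * a) = 0 := by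
        rw [← hq0, map_sub, map_mul, map_mul, hz, sub_self]
      rw [mul_sub, sub_eq_zero] at h1
      rw [mul_assoc, h1, ← mul_assoc, hec b, mul_assoc]
    obtain ⟨χ₀, hχ₀⟩ := Cfsg.Agent.Blocks.Basic.isPBlock_nonempty hB
    refine ⟨lam M (χ₀ : G → ℂ) (e * a), ?_⟩
    have h1 : IsNilpotent (e * a - lam M (χ₀ : G → ℂ) (e * a) • e) := by
      apply isNilpotent_of_lam (isCls_sub hcls (isCls_smul (isCls_idem B) _))
      intro χ
      rw [map_sub, map_smul]
      by_cases hχ : χ ∈ B
      · rw [lam_eq_of_mem hB hχ hχ₀, lam_idem_of_mem hM (isUnion_of_isPBlock hB) hχ₀, smul_eq_mul,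
          mul_one, sub_self]
      · have h3 : lam M (χ : G → ℂ) e = 0 := lam_idem_of_notMem hM (isUnion_of_isPBlock hB) hχ
        have h4 : e * a = e * (e * a) := by rw [← mul_assoc, hee]
        rw [h3, smul_zero, sub_zero, h4, lam_mul χ (isCls_idem B) hcls, h3, zero_mul]
    have h2 := h1.map q
    rw [map_sub, map_smul, hqe, hqe1] at h2
    rwa [Algebra.algebraMap_eq_smul_one]
  obtain ⟨n, hn⟩ := SymAlg.finrank_eq_two_mul_sq hT hτtf hnd hcon
  refine ⟨n, ?_⟩
  rw [← finrank_range_mulLeft hM hB]
  have h3 : finrank (ResField M) (LinearMap.range (LinearMap.mulLeft (ResField M) e)) =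
      finrank (ResField M) L := by
    have h4 := LinearMap.finrank_range_add_finrank_ker (LinearMap.mulLeft (ResField M) e)
    have h5 := LinearMap.finrank_range_add_finrank_ker q.toLinearMap
    have h6 : LinearMap.ker q.toLinearMap = LinearMap.ker (LinearMap.mulLeft (ResField M) e) := by
      ext a
      rw [LinearMap.mem_ker, LinearMap.mem_ker]
      exact hq0 a
    rw [h6, LinearMap.range_eq_top.2 hq, finrank_top] at h5
    omega
  rw [h3, hn]
  push_cast
  ring

end traces

end Cfsg.Agent.H382.BlockDim
end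

-- part: H382/TwoChars
section
/-!
# Blocks with exactly two irreducible characters
-/

set_option autoImplicit false

open Cfsg

namespace Cfsg.Agent.H382.TwoChars

open Cfsg.Agent.Blocks Cfsg.Agent.Blocks.Basic Cfsg.Agent.Blocks.Local Cfsg.Agent.H609.TwoDefect
open Cfsg.Agent.Characters.Core
open scoped ComplexConjugate

theorem arith {p e1 e2 g n b : ℕ} (hp : p.Prime) (he1 : 0 < e1) (he2 : 0 < e2) (hg : 0 < g)
    (hcop : Nat.Coprime e1 e2) (hb : e1 ^ 2 + e2 ^ 2 = p ^ b)
    (hn : (g * e1) ^ 2 + (g * e2) ^ 2 = 2 * n ^ 2) : p = 2 ∧ e1 = 1 ∧ e2 = 1 := by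
  have hb0 : b ≠ 0 := by
    rintro rfl
    rw [pow_zero] at hb
    nlinarith
  have h1 : g ^ 2 * p ^ b = 2 * n ^ 2 := by
    rw [← hb, ← hn]
    ring
  have hn0 : n ≠ 0 := by
    rintro rfl
    have h2 : 0 < g ^ 2 * p ^ b := Nat.mul_pos (pow_pos hg 2) (pow_pos hp.pos b)
    rw [h1] at h2
    simp at h2
  have hp2 : p = 2 := by
    by_contra hne
    have h2 := congrArg (fun m => m.factorization 2) h1
    rw [Nat.factorization_mul (pow_pos hg 2).ne' (pow_pos hp.pos b).ne',
      Nat.factorization_mul (by norm_num) (pow_ne_zero 2 hn0), Nat.factorization_pow,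
      Nat.factorization_pow, Nat.factorization_pow, Finsupp.add_apply, Finsupp.add_apply,
      Finsupp.smul_apply, Finsupp.smul_apply, Finsupp.smul_apply,
      Nat.Prime.factorization_self Nat.prime_two, hp.factorization, Finsupp.single_apply,
      if_neg hne] at h2
    simp only [smul_eq_mul] at h2
    omega
  subst hp2
  refine ⟨rfl, ?_⟩
  have hev : 2 ∣ e1 ^ 2 + e2 ^ 2 := by
    rw [hb]
    exact dvd_pow_self 2 hb0
  have hodd1 : e1 % 2 = 1 := by
    by_contra hcon
    have h2 : 2 ∣ e1 := by omega
    have h3 : 2 ∣ e2 ^ 2 := (Nat.dvd_add_right (dvd_pow h2 (by norm_num))).1 hev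
    have h4 : 2 ∣ e2 := Nat.prime_two.dvd_of_dvd_pow h3
    have h5 := Nat.dvd_gcd h2 h4
    rw [hcop] at h5
    norm_num at h5
  have hodd2 : e2 % 2 = 1 := by
    by_contra hcon
    have h2 : 2 ∣ e2 := by omega
    have h3 : 2 ∣ e1 ^ 2 := (Nat.dvd_add_left (dvd_pow h2 (by norm_num))).1 hev
    have h4 : 2 ∣ e1 := Nat.prime_two.dvd_of_dvd_pow h3
    have h5 := Nat.dvd_gcd h4 h2
    rw [hcop] at h5
    norm_num at h5
  have hm4 : (e1 ^ 2 + e2 ^ 2) % 4 = 2 := by
    have key : ∀ m : ℕ, m % 2 = 1 → m ^ 2 % 4 = 1 := by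
      intro m hm
      have : m % 4 = 1 ∨ m % 4 = 3 := by omega
      rcases this with h | h <;> simp [Nat.pow_mod, h]
    rw [Nat.add_mod, key e1 hodd1, key e2 hodd2]
  have hb1 : b = 1 := by
    rcases Nat.lt_or_ge b 2 with h | h
    · omega
    · exfalso
      obtain ⟨c, rfl⟩ := Nat.exists_eq_add_of_le h
      rw [hb, pow_add] at hm4
      omega
  subst hb1
  rw [pow_one] at hb
  constructor <;> nlinarith

section Forward

variable {G : Type*} [Group G] [Finite G] {p : ℕ} [Fact p.Prime] {M : Ideal AlgInt}

theorem charDegree_dvd (χ : IrrCharacter G) : charDegree (χ : G → ℂ) ∣ Nat.card G := by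
  obtain ⟨m, ρ, hρ, hρζ⟩ := χ.2
  have h1 := S0135.result ρ
  have h2 : charDegree (χ : G → ℂ) = Module.finrank ℂ (Fin m → ℂ) := by
    apply charDegree_of_eq
    rw [← hρζ, Representation.char_one]
  rw [h2]
  exact h1

/-- A character of full `p`-part forms a block of its own. -/
theorem block_eq_singleton (hM : IsPModular p M) {B : Set (IrrCharacter G)} (hB : IsPBlock M B)
    {χ : IrrCharacter G} (hχ : χ ∈ B)
    (h : (Nat.card G).factorization p ≤ (charDegree (χ : G → ℂ)).factorization p) : B = {χ} := by
  have hp : p.Prime := Fact.out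
  have hMp := isPrime_of_isPModular hM
  have h2 : ¬ p ∣ Nat.card G / charDegree (χ : G → ℂ) := by
    have hdvd := charDegree_dvd χ
    rintro ⟨e, he⟩
    have h3 : Nat.card G = charDegree (χ : G → ℂ) * (p * e) := by
      rw [← he, Nat.mul_div_cancel' hdvd]
    have h4 : charDegree (χ : G → ℂ) ≠ 0 := (charDegree_pos χ.2).ne'
    have h5 : e ≠ 0 := by
      rintro rfl
      rw [mul_zero, mul_zero] at h3
      exact Nat.card_pos.ne' h3
    have h6 := congrArg (fun n => n.factorization p) h3
    rw [Nat.factorization_mul h4 (Nat.mul_ne_zero hp.ne_zero h5), Finsupp.add_apply,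
      Nat.factorization_mul hp.ne_zero h5, Finsupp.add_apply, Nat.Prime.factorization_self hp] at h6
    omega
  have h3 := (S0914.result p M hM χ).1 h2
  rwa [← isPBlock_eq_blockOf hB hχ] at h3

/-- A character of a block with at least two characters does not vanish at all elements of order
`p`. -/
theorem exists_ne_zero (hM : IsPModular p M) {B : Set (IrrCharacter G)} (hB : IsPBlock M B)
    {χ : IrrCharacter G} (hχ : χ ∈ B) (h2 : Nat.card B = 2) :
    ∃ x : G, p ∣ orderOf x ∧ (χ : G → ℂ) x ≠ 0 := by
  by_contra hcon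
  push Not at hcon
  have h1 := S0928.result p χ (fun g hg => hcon g (by rw [hg]))
  have h3 := block_eq_singleton hM hB hχ h1.ge
  rw [h3] at h2
  simp at h2

omit [Finite G] in
theorem int_classInner [Fintype G] {θ : G → ℂ} (hθ : IsGeneralizedCharacter G θ)
    (χ : IrrCharacter G) : ∃ n : ℤ, classInner θ (χ : G → ℂ) = n := by
  obtain ⟨ψ, ψ', hψ, hψ', rfl⟩ := hθ
  obtain ⟨n, hn⟩ := classInner_isNat hψ (irr_isCharacter χ.2)
  obtain ⟨n', hn'⟩ := classInner_isNat hψ' (irr_isCharacter χ.2)
  refine ⟨n - n', ?_⟩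
  rw [classInner_sub_left, hn, hn']
  push_cast
  rfl

/-- If a block has exactly two irreducible characters then its defect groups have order two. -/
theorem card_defectGroup (hM : IsPModular p M) {B : Set (IrrCharacter G)} (hB : IsPBlock M B)
    {D : Subgroup G} (hD : IsDefectGroup p M B D) (h2 : Nat.card B = 2) : Nat.card D = 2 := by
  classical
  have hp : p.Prime := Fact.out
  have hMp := isPrime_of_isPModular hM
  have := Fintype.ofFinite G
  have : Finite (IrrCharacter G) := finite_irr
  obtain ⟨χ₁, χ₂, h12, hBeq⟩ : ∃ χ₁ χ₂ : IrrCharacter G, χ₁ ≠ χ₂ ∧ B = {χ₁, χ₂} := by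
    have h1 : B.ncard = 2 := h2
    exact Set.ncard_eq_two.1 h1
  have hm1 : χ₁ ∈ B := by rw [hBeq]; exact Or.inl rfl
  have hm2 : χ₂ ∈ B := by rw [hBeq]; exact Or.inr rfl
  obtain ⟨d1, hd1, hχ1⟩ := irr_one_eq_natCast χ₁.2
  obtain ⟨d2, hd2, hχ2⟩ := irr_one_eq_natCast χ₂.2
  have hd1C : (d1 : ℂ) ≠ 0 := by exact_mod_cast hd1.ne'
  have hd2C : (d2 : ℂ) ≠ 0 := by exact_mod_cast hd2.ne'
  -- the sum of the squares of the degrees
  obtain ⟨n, hn⟩ := BlockDim.exists_sum_sq_eq hM hB h2
  have hn' : d1 ^ 2 + d2 ^ 2 = 2 * n ^ 2 := by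
    rw [hBeq, finsum_mem_pair h12, hχ1, hχ2, map_natCast, map_natCast] at hn
    have h3 : ((d1 ^ 2 + d2 ^ 2 : ℕ) : ℂ) = ((2 * n ^ 2 : ℕ) : ℂ) := by
      push_cast
      rw [← hn]
      ring
    exact_mod_cast h3
  -- weak orthogonality
  have horth : ∀ y x : G, ¬ p ∣ orderOf y → p ∣ orderOf x →
      (χ₁ : G → ℂ) y * conj ((χ₁ : G → ℂ) x) + (χ₂ : G → ℂ) y * conj ((χ₂ : G → ℂ) x) = 0 := by
    intro y x hy hx
    have h1 := S0907.result p M hM B hB y x hy hx
    rwa [hBeq, finsum_mem_pair h12] at h1
  have h1reg : ¬ p ∣ orderOf (1 : G) := by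
    rw [orderOf_one]
    exact hp.one_lt.ne' ∘ Nat.dvd_one.1
  have hsing : ∀ x : G, p ∣ orderOf x →
      (d1 : ℂ) * (χ₁ : G → ℂ) x + (d2 : ℂ) * (χ₂ : G → ℂ) x = 0 := by
    intro x hx
    have h1 := horth 1 x h1reg hx
    rw [hχ1, hχ2] at h1
    have h3 := congrArg (starRingEnd ℂ) h1
    rw [map_add, map_mul, map_mul, map_natCast, map_natCast, Complex.conj_conj, Complex.conj_conj,
      map_zero] at h3
    exact h3
  have hreg : ∀ y : G, ¬ p ∣ orderOf y → (d2 : ℂ) * (χ₁ : G → ℂ) y = (d1 : ℂ) * (χ₂ : G → ℂ) y := by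
    obtain ⟨x, hx, hx0⟩ := exists_ne_zero hM hB hm1 h2
    intro y hy
    have h1 := horth 1 x h1reg hx
    rw [hχ1, hχ2] at h1
    have h3 := horth y x hy hx
    have h4 : conj ((χ₁ : G → ℂ) x) ≠ 0 := by
      rw [Ne, map_eq_zero]
      exact hx0
    have h5 : ((d2 : ℂ) * (χ₁ : G → ℂ) y - (d1 : ℂ) * (χ₂ : G → ℂ) y) * conj ((χ₁ : G → ℂ) x) = 0 := by
      linear_combination (d2 : ℂ) * h3 - (χ₂ : G → ℂ) y * h1
    exact sub_eq_zero.1 ((mul_eq_zero.1 h5).resolve_right h4)
  -- the greatest common divisor
  obtain ⟨g, e1, e2, hg, hcop, rfl, rfl⟩ : ∃ g e1 e2 : ℕ, 0 < g ∧ Nat.Coprime e1 e2 ∧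
      d1 = g * e1 ∧ d2 = g * e2 := by
    obtain ⟨g, e1, e2, hg, h3, h4, h5⟩ := Nat.exists_coprime' (Nat.gcd_pos_of_pos_left d2 hd1)
    exact ⟨g, e1, e2, hg, h3, by rw [h4, mul_comm], by rw [h5, mul_comm]⟩
  have he1 : 0 < e1 := Nat.pos_of_mul_pos_left hd1 |> fun h => by
    rcases Nat.eq_zero_or_pos e1 with h0 | h0
    · rw [h0, mul_zero] at hd1; exact absurd hd1 (lt_irrefl 0)
    · exact h0
  have he2 : 0 < e2 := by
    rcases Nat.eq_zero_or_pos e2 with h0 | h0
    · rw [h0, mul_zero] at hd2; exact absurd hd2 (lt_irrefl 0)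
    · exact h0
  have hgC : (g : ℂ) ≠ 0 := by exact_mod_cast hg.ne'
  have hsing' : ∀ x : G, p ∣ orderOf x →
      (e1 : ℂ) * (χ₁ : G → ℂ) x + (e2 : ℂ) * (χ₂ : G → ℂ) x = 0 := by
    intro x hx
    have h1 := hsing x hx
    push_cast at h1
    have h3 : (g : ℂ) * ((e1 : ℂ) * (χ₁ : G → ℂ) x + (e2 : ℂ) * (χ₂ : G → ℂ) x) = 0 := by
      linear_combination h1
    exact (mul_eq_zero.1 h3).resolve_left hgC
  have hreg' : ∀ y : G, ¬ p ∣ orderOf y →
      (e2 : ℂ) * (χ₁ : G → ℂ) y = (e1 : ℂ) * (χ₂ : G → ℂ) y := by
    intro y hy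
    have h1 := hreg y hy
    push_cast at h1
    have h3 : (g : ℂ) * ((e2 : ℂ) * (χ₁ : G → ℂ) y - (e1 : ℂ) * (χ₂ : G → ℂ) y) = 0 := by
      linear_combination h1
    exact sub_eq_zero.1 ((mul_eq_zero.1 h3).resolve_left hgC)
  obtain ⟨a, b, hab⟩ : ∃ a b : ℤ, a * e1 + b * e2 = 1 := by
    have h1 : IsCoprime (e1 : ℤ) (e2 : ℤ) := Nat.isCoprime_iff_coprime.2 hcop
    exact h1
  have habC : (a : ℂ) * e1 + (b : ℂ) * e2 = 1 := by exact_mod_cast hab
  -- `N = e1² + e2²` divides the `p`-part of the order of `G`
  set P : ℕ := p ^ (Nat.card G).factorization p with hP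
  have hfun : ((e1 : ℂ) ^ 2 + (e2 : ℂ) ^ 2) • (((a : ℂ) • fun x : G => if p ∣ orderOf x then 0 else
      ((p ^ (Nat.card G).factorization p : ℕ) : ℂ) * (χ₁ : G → ℂ) x) +
      ((b : ℂ) • fun x : G => if p ∣ orderOf x then 0 else
      ((p ^ (Nat.card G).factorization p : ℕ) : ℂ) * (χ₂ : G → ℂ) x)) =
      ((P : ℂ) * e1) • (χ₁ : G → ℂ) + ((P : ℂ) * e2) • (χ₂ : G → ℂ) := by
    funext x
    simp only [Pi.add_apply, Pi.smul_apply, smul_eq_mul]
    by_cases hx : p ∣ orderOf x
    · rw [if_pos hx, if_pos hx]
      linear_combination (-(P : ℂ)) * hsing' x hx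
    · rw [if_neg hx, if_neg hx, ← hP]
      have h3 := hreg' x hx
      linear_combination (P : ℂ) * ((e1 : ℂ) * (χ₁ : G → ℂ) x + (e2 : ℂ) * (χ₂ : G → ℂ) x) * habC
        + (P : ℂ) * ((a : ℂ) * e2 - (b : ℂ) * e1) * h3
  obtain ⟨m1, hm1'⟩ : ∃ m : ℤ, ((e1 : ℂ) ^ 2 + (e2 : ℂ) ^ 2) * m = P * e1 := by
    obtain ⟨u1, hu1⟩ := int_classInner (S0961.result p χ₁) χ₁
    obtain ⟨u2, hu2⟩ := int_classInner (S0961.result p χ₂) χ₁
    refine ⟨a * u1 + b * u2, ?_⟩
    have h3 := congrArg (fun f => classInner f (χ₁ : G → ℂ)) hfun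
    simp only [classInner_smul_left, classInner_add_left] at h3
    rw [hu1, hu2, classInner_irr_self χ₁.2, classInner_irr_ne χ₂.2 χ₁.2
      (fun h => h12 (Subtype.ext h).symm), mul_zero, add_zero, mul_one] at h3
    push_cast
    exact h3
  obtain ⟨m2, hm2'⟩ : ∃ m : ℤ, ((e1 : ℂ) ^ 2 + (e2 : ℂ) ^ 2) * m = P * e2 := by
    obtain ⟨u1, hu1⟩ := int_classInner (S0961.result p χ₁) χ₂
    obtain ⟨u2, hu2⟩ := int_classInner (S0961.result p χ₂) χ₂
    refine ⟨a * u1 + b * u2, ?_⟩
    have h3 := congrArg (fun f => classInner f (χ₂ : G → ℂ)) hfun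
    simp only [classInner_smul_left, classInner_add_left] at h3
    rw [hu1, hu2, classInner_irr_self χ₂.2, classInner_irr_ne χ₁.2 χ₂.2
      (fun h => h12 (Subtype.ext h)), mul_zero, zero_add, mul_one] at h3
    push_cast
    exact h3
  have hNP : e1 ^ 2 + e2 ^ 2 ∣ P := by
    have h1 : ((e1 : ℤ) ^ 2 + (e2 : ℤ) ^ 2) * (a * m1 + b * m2) = P := by
      have h3 : (((e1 : ℤ) ^ 2 + (e2 : ℤ) ^ 2 : ℤ) : ℂ) * ((a * m1 + b * m2 : ℤ) : ℂ) =
          ((P : ℤ) : ℂ) := by
        push_cast
        linear_combination (a : ℂ) * hm1' + (b : ℂ) * hm2' + (P : ℂ) * habC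
      exact_mod_cast h3
    have h3 : ((e1 ^ 2 + e2 ^ 2 : ℕ) : ℤ) ∣ (P : ℤ) := by
      refine ⟨a * m1 + b * m2, ?_⟩
      rw [← h1]
      push_cast
      ring
    exact_mod_cast h3
  obtain ⟨k, -, hk⟩ := (Nat.dvd_prime_pow hp).1 hNP
  obtain ⟨hp2, rfl, rfl⟩ := arith hp he1 he2 hg hcop hk hn'
  -- the order of the defect group
  have hGle : (Nat.card G).factorization p ≤ 1 + g.factorization p := by
    obtain ⟨Q⟩ : Nonempty (Sylow p G) := inferInstance
    have hint : IsIntegral ℤ (((χ₁ : G → ℂ) 1 + (χ₂ : G → ℂ) 1) / Nat.card Q) := by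
      refine AvgIntegral.isIntegral_div_card_of_vanish hp
        (θ := fun x => (χ₁ : G → ℂ) x + (χ₂ : G → ℂ) x) ?_ (Q : Subgroup G) Q.isPGroup' 1 h1reg ?_ ?_
      · intro y hy
        have := hsing' y hy
        simpa using this
      · intro q _
        rw [one_mul, mul_one]
      · intro _
        rw [Finset.sum_add_distrib, mul_add]
        exact IsIntegral.add
          (AvgIntegral.isIntegral_avg (irr_isCharacter χ₁.2) Q 1 fun q _ => by rw [one_mul, mul_one])
          (AvgIntegral.isIntegral_avg (irr_isCharacter χ₂.2) Q 1 fun q _ => by rw [one_mul, mul_one])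
    have hQ0 : Nat.card Q ≠ 0 := Nat.card_pos.ne'
    have h1 : Nat.card Q ∣ 2 * g := by
      have h3 : ((χ₁ : G → ℂ) 1 + (χ₂ : G → ℂ) 1) / Nat.card Q =
          (((2 * g : ℕ) : ℚ) / ((Nat.card Q : ℕ) : ℚ) : ℚ) := by
        rw [hχ1, hχ2]
        push_cast
        ring
      rw [h3] at hint
      have h4 : IsIntegral ℤ ((((2 * g : ℕ) : ℚ) / ((Nat.card Q : ℕ) : ℚ) : ℚ)) :=
        (isIntegral_algebraMap_iff (algebraMap ℚ ℂ).injective).1 hint
      obtain ⟨z, hz⟩ := IsIntegrallyClosed.isIntegral_iff.1 h4
      have h5 : ((Nat.card Q : ℕ) : ℤ) ∣ ((2 * g : ℕ) : ℤ) := by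
        refine ⟨z, ?_⟩
        have h6 : ((z : ℤ) : ℚ) = ((2 * g : ℕ) : ℚ) / ((Nat.card Q : ℕ) : ℚ) := hz
        have h7 : ((Nat.card Q : ℕ) : ℚ) ≠ 0 := by exact_mod_cast hQ0
        rw [eq_div_iff h7] at h6
        have h8 : (((2 * g : ℕ) : ℤ) : ℚ) = ((((Nat.card Q : ℕ) : ℤ) * z : ℤ) : ℚ) := by
          push_cast
          push_cast at h6
          rw [← h6]
          ring
        exact_mod_cast h8
      exact_mod_cast h5
    rw [Q.card_eq_multiplicity] at h1
    have h2g : 2 * g ≠ 0 := Nat.mul_ne_zero (by norm_num) hg.ne'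
    have h3 := (hp.pow_dvd_iff_le_factorization h2g).1 h1
    rw [Nat.factorization_mul (by norm_num) hg.ne', Finsupp.add_apply] at h3
    rw [hp2] at h3 ⊢
    rwa [Nat.Prime.factorization_self Nat.prime_two] at h3
  have hdeg : ∀ χ ∈ B, charDegree (χ : G → ℂ) = g := by
    intro χ hχ
    rw [hBeq] at hχ
    rcases hχ with rfl | rfl
    · exact charDegree_of_eq (by rw [hχ1, mul_one])
    · exact charDegree_of_eq (by rw [hχ2, mul_one])
  have hinf : sInf ((fun χ : IrrCharacter G => (charDegree (χ : G → ℂ)).factorization p) '' B) =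
      g.factorization p := by
    have h1 : (fun χ : IrrCharacter G => (charDegree (χ : G → ℂ)).factorization p) '' B =
        {g.factorization p} := by
      ext m
      constructor
      · rintro ⟨χ, hχ, rfl⟩
        rw [Set.mem_singleton_iff]
        show (charDegree (χ : G → ℂ)).factorization p = _
        rw [hdeg χ hχ]
      · rintro rfl
        exact ⟨χ₁, hm1, by show (charDegree (χ₁ : G → ℂ)).factorization p = _; rw [hdeg χ₁ hm1]⟩
    rw [h1, csInf_singleton]
  have hlt : g.factorization p < (Nat.card G).factorization p := by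
    by_contra hcon
    push Not at hcon
    have h1 := block_eq_singleton hM hB hm1 (by rw [hdeg χ₁ hm1]; exact hcon)
    rw [h1] at h2
    simp at h2
  have hcard := S0908.result p M hM B hB D hD
  rw [hcard, blockDefect, hinf, hp2]
  have h1 : (Nat.card G).factorization 2 - g.factorization 2 = 1 := by
    rw [hp2] at hlt hGle
    omega
  rw [h1, pow_one]

end Forward

section Backward

variable {G : Type*} [Group G] [Finite G] {M : Ideal AlgInt}

theorem exists_inducing (hM : IsPModular 2 M) {x : G} (hx : orderOf x = 2)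
    {B : Set (IrrCharacter G)} (hB : IsPBlock M B) (hBD : IsDefectGroup 2 M B (Subgroup.zpowers x))
    {H : Subgroup G} (hH : H = Subgroup.centralizer ({x} : Set G)) :
    ∃ b : Set (IrrCharacter H), IsPBlock M b ∧
      IsDefectGroup 2 M b ((Subgroup.zpowers x).subgroupOf H) ∧ IsInducedBlock M H b B := by
  have hN : H = Subgroup.normalizer ((Subgroup.zpowers x : Subgroup G) : Set G) := by
    rw [normalizer_zpowers hx, hH]
  clear hH
  subst hN
  have hp : IsPGroup 2 (Subgroup.zpowers x) := by
    refine IsPGroup.of_card (n := 1) ?_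
    rw [Nat.card_zpowers, hx, pow_one]
  obtain ⟨c, hc, -⟩ := (S0920.result 2 M hM (Subgroup.zpowers x) hp).2 B hB hBD
  exact ⟨c, hc⟩

theorem exists_trivial_on (hM : IsPModular 2 M) {x : G} (hx : orderOf x = 2)
    {H : Subgroup G} (hH : H = Subgroup.centralizer ({x} : Set G))
    {b : Set (IrrCharacter H)} (hb : IsPBlock M b)
    (hbD : IsDefectGroup 2 M b ((Subgroup.zpowers x).subgroupOf H)) :
    ∃ θ : IrrCharacter H, θ ∈ b ∧ ∀ z : H, (z : G) = x → (θ : H → ℂ) z = (θ : H → ℂ) 1 := by
  classical
  obtain ⟨xH, hxH⟩ : ∃ xH : H, (xH : G) = x :=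
    ⟨⟨x, hH ▸ Subgroup.mem_centralizer_singleton_iff.2 rfl⟩, rfl⟩
  have hordx : orderOf xH = 2 := by rw [← Subgroup.orderOf_coe, hxH, hx]
  have hxc : xH ∈ Subgroup.center H := by
    rw [Subgroup.mem_center_iff]
    intro g
    apply Subtype.ext
    rw [Subgroup.coe_mul, Subgroup.coe_mul, hxH]
    exact Subgroup.mem_centralizer_singleton_iff.1 (hH ▸ g.2)
  have hz : (Subgroup.zpowers x).subgroupOf H = Subgroup.zpowers xH := by
    ext y
    rw [Subgroup.mem_subgroupOf, Subgroup.mem_zpowers_iff, Subgroup.mem_zpowers_iff]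
    constructor
    · rintro ⟨n, hn⟩
      exact ⟨n, Subtype.ext (by rw [← hn, ← hxH]; simp)⟩
    · rintro ⟨n, rfl⟩
      exact ⟨n, by rw [← hxH]; simp⟩
  rw [hz] at hbD
  have hp : IsPGroup 2 (Subgroup.zpowers xH) := by
    refine IsPGroup.of_card (n := 1) ?_
    rw [Nat.card_zpowers, hordx, pow_one]
  have hcen : Subgroup.centralizer ((Subgroup.zpowers xH : Subgroup H) : Set H) = ⊤ := by
    rw [eq_top_iff]
    intro g _
    rw [Subgroup.mem_centralizer_iff]
    rintro w ⟨n, rfl⟩
    exact ((show Commute xH g from (Subgroup.mem_center_iff.1 hxc g).symm).zpow_left n)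
  obtain ⟨⟨φ, hφ, -⟩, -, -⟩ := S0968.result 2 M hM (Subgroup.zpowers xH) hp
    (by rw [hcen, sup_top_eq]) b hb hbD
  refine ⟨φ, hφ.1, fun z hz => ?_⟩
  obtain rfl : z = xH := Subtype.ext (by rw [hz, hxH])
  exact hφ.2 z (Subgroup.mem_zpowers z)

theorem card_of_card_defectGroup {p : ℕ} [Fact p.Prime] (hM : IsPModular p M)
    {B : Set (IrrCharacter G)} (hB : IsPBlock M B) {D : Subgroup G} (hD : IsDefectGroup p M B D)
    (h2 : Nat.card D = 2) : Nat.card B = 2 := by
  have hp : p.Prime := Fact.out
  obtain rfl : p = 2 := by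
    have h1 := S0908.result p M hM B hB D hD
    rw [h2] at h1
    have h3 : blockDefect p B ≠ 0 := by
      intro h0
      rw [h0, pow_zero] at h1
      norm_num at h1
    have h4 : p ∣ 2 := by
      rw [h1]
      exact dvd_pow_self p h3
    exact (Nat.prime_dvd_prime_iff_eq hp Nat.prime_two).1 h4
  have : IsCyclic D := isCyclic_of_prime_card h2
  obtain ⟨x, hx⟩ := IsCyclic.exists_generator (α := D)
  have hDx : D = Subgroup.zpowers (x : G) := by
    ext y
    rw [Subgroup.mem_zpowers_iff]
    constructor
    · intro hy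
      obtain ⟨n, hn⟩ := Subgroup.mem_zpowers_iff.1 (hx ⟨y, hy⟩)
      exact ⟨n, by simpa using congrArg Subtype.val hn⟩
    · rintro ⟨n, rfl⟩
      exact D.zpow_mem x.2 n
  have hord : orderOf (x : G) = 2 := by
    rw [← Nat.card_zpowers, ← hDx, h2]
  rw [hDx] at hD
  obtain ⟨b, hb, hbD, hbB⟩ := exists_inducing hM hord hB hD (H := Subgroup.centralizer {(x : G)}) rfl
  obtain ⟨θ, hθ, hθx⟩ := exists_trivial_on hM hord rfl hb hbD
  exact (S4513.result M hM (x : G) hord B hB hD b hbB θ hθ hθx).1

end Backward

end Cfsg.Agent.H382.TwoChars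
end
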