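import Mathlib
import Cfsg.Agent.Prune
set_option linter.all false
prune_inst 0x7f00000000000000000000000000000000000000000000000000000000000000000000000000000000000000000000000000000000000000000000000000000000000000000000000000000000000000003fffffffffffffffffffffffffffbeffbdffffffff
open scoped Cfsg.Agent.FastGrp

/-!
# Unipotent isometries in characteristic 5, dimension at most 8 (helper382)

* `unip6` : a unipotent isometry of a nondegenerate symmetric bilinear space of dimension at most 6 has order 1 or 5;
* `comm5` : a unipotent isometry commuting with a nonscalar isometry `s`, `s² = ± 1`, in dimension 7 or 8;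
* `scalar6` : dimension 6, no form.
-/

set_option autoImplicit false

namespace Cfsg.Agent.H382.Own5

open Module

section Nil

variable {F V : Type*} [Field F] [AddCommGroup V] [Module F V]

end Nil

section Form

variable {F V : Type*} [Field F] [AddCommGroup V] [Module F V]

variable [FiniteDimensional F V]

/-- the eigenspaces -/
def eig (s : Module.End F V) (c : F) : Submodule F V := LinearMap.ker (s - algebraMap F (Module.End F V) c)

omit [FiniteDimensional F V] in
theorem mem_eig {s : Module.End F V} {c : F} {v : V} : v ∈ eig s c ↔ s v = c • v := by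
  rw [eig, LinearMap.mem_ker, LinearMap.sub_apply, Module.algebraMap_end_apply, sub_eq_zero]

omit [FiniteDimensional F V] in
theorem eig_compl (h2 : (2 : F) ≠ 0) {s : Module.End F V} {c : F} (hc : c ≠ 0) (hs : ∀ v, s (s v) = (c * c) • v) :
    IsCompl (eig s c) (eig s (-c)) := by
  constructor
  · rw [Submodule.disjoint_def]
    intro v h1 h3
    rw [mem_eig] at h1 h3
    have h4 : (2 * c) • v = 0 := by
      have : c • v - (-c) • v = 0 := by rw [← h1, ← h3, sub_self]
      rw [neg_smul, sub_neg_eq_add, ← add_smul] at this
      rwa [two_mul]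
    exact (smul_eq_zero.1 h4).resolve_left (mul_ne_zero h2 hc)
  · rw [codisjoint_iff, eq_top_iff]
    intro v _
    rw [Submodule.mem_sup]
    refine ⟨(2 * c)⁻¹ • (c • v + s v), ?_, (2 * c)⁻¹ • (c • v - s v), ?_, ?_⟩
    · rw [mem_eig, map_smul, map_add, map_smul, hs, smul_comm c]
      congr 1
      rw [smul_add, smul_smul, add_comm]
    · rw [mem_eig, map_smul, map_sub, map_smul, hs, smul_comm (-c)]
      congr 1
      rw [smul_sub, smul_smul, neg_smul, neg_mul, neg_smul]
      abel
    · rw [← smul_add]
      have : c • v + s v + (c • v - s v) = (2 * c) • v := by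
        rw [two_mul, add_smul]; abel
      rw [this, smul_smul, inv_mul_cancel₀ (mul_ne_zero h2 hc), one_smul]

/-- the determinant of an involution -/
theorem det_invol (h2 : (2 : F) ≠ 0) {s : Module.End F V} (hs : ∀ v, s (s v) = v) :
    LinearMap.det s = (-1) ^ finrank F (eig s (-1)) := by
  have hc : IsCompl (eig s 1) (eig s (-1)) :=
    eig_compl h2 one_ne_zero (fun v => by rw [hs, one_mul, one_smul])
  let e := Submodule.prodEquivOfIsCompl _ _ hc
  have he : s = (e : (eig s 1 × eig s (-1)) →ₗ[F] V) ∘ₗ
      ((LinearMap.id : eig s 1 →ₗ[F] eig s 1).prodMap ((-1 : F) • (LinearMap.id : eig s (-1) →ₗ[F] eig s (-1)))) ∘ₗ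
      (e.symm : V →ₗ[F] (eig s 1 × eig s (-1))) := by
    apply LinearMap.ext
    intro v
    obtain ⟨p, rfl⟩ := e.surjective v
    have h1 : e p = (p.1 : V) + (p.2 : V) := rfl
    simp only [LinearMap.comp_apply, LinearEquiv.coe_coe, LinearEquiv.symm_apply_apply, LinearMap.prodMap_apply]
    rw [h1, map_add, mem_eig.1 p.1.2, mem_eig.1 p.2.2]
    have h3 : ∀ x : eig s 1 × eig s (-1), e x = (x.1 : V) + (x.2 : V) := fun _ => rfl
    rw [h3]
    simp
  conv_lhs => rw [he]
  rw [LinearMap.det_conj, LinearMap.det_prodMap, LinearMap.det_id, one_mul,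
    LinearMap.det_smul, LinearMap.det_id, mul_one]

end Form

end Cfsg.Agent.H382.Own5

private theorem dce_6758d589c13b : _root_.True := by
  try have : _root_.True := by simp only [_root_.Cfsg.Agent.H382.Own5.eig.eq_1]
  exact _root_.True.intro
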